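import Mathlib
import Groth.Prelude.Def_W4c2gaugesfzipsQuiet
import Groth.Prelude.Def_Frob

set_option autoImplicit false
open scoped TensorProduct
open Polynomial

namespace Groth.Agent.H8.QTower

universe u

/-- ring-hom form of a root tower: `φ : A → B` is (up to iso) a tower of `n` extractions of
`p`-th roots. -/
def Tower (p : ℕ) : ℕ → ∀ (A B : Type u) [CommRing A] [CommRing B], (A →+* B) → Prop
  | 0, _, _, _, _, φ => Function.Bijective φ
  | n + 1, A, B, _, _, φ => ∃ (a : A) (x : B) (h : eval₂ φ x (X ^ p - C a : A[X]) = 0),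
      Tower p n (AdjoinRoot (X ^ p - C a : A[X])) B (AdjoinRoot.lift φ x h)

theorem eval₂_root_poly {A B : Type u} [CommRing A] [CommRing B] (p : ℕ) (φ : A →+* B) (x : B)
    (a : A) : eval₂ φ x (X ^ p - C a : A[X]) = x ^ p - φ a := by
  simp [eval₂_sub, eval₂_pow, eval₂_X, eval₂_C]

theorem root_pow_eq {A : Type u} [CommRing A] (p : ℕ) (a : A) :
    (AdjoinRoot.root (X ^ p - C a : A[X])) ^ p = AdjoinRoot.of (X ^ p - C a : A[X]) a := by
  have h := AdjoinRoot.eval₂_root (X ^ p - C a : A[X])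
  rw [eval₂_root_poly] at h
  exact sub_eq_zero.mp h

theorem isRootTower_iff (p n : ℕ) : ∀ (A B : Type u) [CommRing A] [CommRing B] [Algebra A B],
    Quiet.IsRootTower p n A B ↔ Tower p n A B (algebraMap A B) := by
  induction n with
  | zero =>
    intro A B _ _ _
    constructor
    · rintro ⟨e⟩
      have h : (algebraMap A B : A → B) = e.symm := by
        funext a
        have := e.symm.commutes a
        rw [← this]; rfl
      show Function.Bijective (algebraMap A B)
      rw [h]; exact e.symm.bijective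
    · intro h
      exact ⟨(AlgEquiv.ofBijective (Algebra.ofId A B) h).symm⟩
  | succ n ih =>
    intro A B _ _ _
    constructor
    · rintro ⟨a, alg, tow, h⟩
      letI := alg
      haveI := tow
      have ih' := (ih (Quiet.RootRing p A a) B).mp h
      have e1 : algebraMap A B =
          (algebraMap (Quiet.RootRing p A a) B).comp (AdjoinRoot.of (X ^ p - C a : A[X])) := by
        ext r
        rw [RingHom.comp_apply, ← AdjoinRoot.algebraMap_eq,
          ← IsScalarTower.algebraMap_apply]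
      have hx : eval₂ (algebraMap A B)
          (algebraMap (Quiet.RootRing p A a) B (AdjoinRoot.root (X ^ p - C a : A[X])))
          (X ^ p - C a : A[X]) = 0 := by
        rw [e1, ← Polynomial.hom_eval₂, AdjoinRoot.eval₂_root, map_zero]
      have hlift : AdjoinRoot.lift (algebraMap A B)
          (algebraMap (Quiet.RootRing p A a) B (AdjoinRoot.root (X ^ p - C a : A[X]))) hx =
          algebraMap (Quiet.RootRing p A a) B := by
        apply AdjoinRoot.ringHom_ext
        · ext r
          rw [RingHom.comp_apply, AdjoinRoot.lift_of, RingHom.comp_apply, e1, RingHom.comp_apply]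
        · rw [AdjoinRoot.lift_root]
      refine ⟨a, _, hx, ?_⟩
      rw [hlift]
      exact ih'
    · rintro ⟨a, x, hx, ht⟩
      letI alg : Algebra (Quiet.RootRing p A a) B := (AdjoinRoot.lift (algebraMap A B) x hx).toAlgebra
      have tow : IsScalarTower A (Quiet.RootRing p A a) B :=
        IsScalarTower.of_algebraMap_eq (fun r => by
          show algebraMap A B r = AdjoinRoot.lift (algebraMap A B) x hx
            (algebraMap A (AdjoinRoot (X ^ p - C a : A[X])) r)
          rw [AdjoinRoot.algebraMap_eq, AdjoinRoot.lift_of])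
      show ∃ (a' : A) (_ : Algebra (Quiet.RootRing p A a') B),
        IsScalarTower A (Quiet.RootRing p A a') B ∧
          Quiet.IsRootTower p n (Quiet.RootRing p A a') B
      exact ⟨a, alg, tow, (ih (Quiet.RootRing p A a) B).mpr ht⟩

/-- transport of a tower along ring isomorphisms of source and target. -/
theorem tower_transport (p n : ℕ) : ∀ (A B A₁ B₁ : Type u) [CommRing A] [CommRing B]
    [CommRing A₁] [CommRing B₁] (φ : A →+* B) (φ₁ : A₁ →+* B₁) (σ₁ : A ≃+* A₁) (σ₂ : B ≃+* B₁)
    (_ : ∀ a, φ₁ (σ₁ a) = σ₂ (φ a)), Tower p n A B φ → Tower p n A₁ B₁ φ₁ := by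
  induction n with
  | zero =>
    intro A B A₁ B₁ _ _ _ _ φ φ₁ σ₁ σ₂ h hφ
    have e : (φ₁ : A₁ → B₁) = σ₂ ∘ φ ∘ σ₁.symm := by
      funext b
      simp only [Function.comp_apply]
      rw [← h, RingEquiv.apply_symm_apply]
    show Function.Bijective φ₁
    rw [e]
    exact σ₂.bijective.comp (Function.Bijective.comp hφ σ₁.symm.bijective)
  | succ n ih =>
    rintro A B A₁ B₁ _ _ _ _ φ φ₁ σ₁ σ₂ h ⟨a, x, hx, ht⟩
    have hx' : x ^ p = φ a := by
      rw [eval₂_root_poly] at hx; exact sub_eq_zero.mp hx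
    have hx₁ : eval₂ φ₁ (σ₂ x) (X ^ p - C (σ₁ a) : A₁[X]) = 0 := by
      rw [eval₂_root_poly, h, ← map_pow, hx', sub_self]
    refine ⟨σ₁ a, σ₂ x, hx₁, ?_⟩
    have hassoc : Associated ((X ^ p - C a : A[X]).map (σ₁ : A →+* A₁))
        (X ^ p - C (σ₁ a) : A₁[X]) := by
      rw [Polynomial.map_sub, Polynomial.map_pow, Polynomial.map_X, Polynomial.map_C]
      exact Associated.refl _
    refine ih _ B _ B₁ (AdjoinRoot.lift φ x hx) (AdjoinRoot.lift φ₁ (σ₂ x) hx₁)
      (AdjoinRoot.mapRingEquiv σ₁ _ _ hassoc) σ₂ ?_ ht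
    intro z
    have key : (AdjoinRoot.lift φ₁ (σ₂ x) hx₁).comp
        (AdjoinRoot.map (σ₁ : A →+* A₁) (X ^ p - C a : A[X]) (X ^ p - C (σ₁ a) : A₁[X])
          hassoc.symm.dvd) = (σ₂ : B →+* B₁).comp (AdjoinRoot.lift φ x hx) := by
      apply AdjoinRoot.ringHom_ext
      · ext r
        simp only [RingHom.comp_apply, AdjoinRoot.map_of, AdjoinRoot.lift_of, RingEquiv.coe_toRingHom]
        exact h r
      · simp only [RingHom.comp_apply, AdjoinRoot.map_root, AdjoinRoot.lift_root,
          RingEquiv.coe_toRingHom]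
    exact congrArg (fun f => f z) key

/-- transport along bijective ring homs. -/
theorem tower_transport' (p n : ℕ) {A B A₁ B₁ : Type u} [CommRing A] [CommRing B]
    [CommRing A₁] [CommRing B₁] (φ : A →+* B) (φ₁ : A₁ →+* B₁) (τ₁ : A →+* A₁) (τ₂ : B →+* B₁)
    (h₁ : Function.Bijective τ₁) (h₂ : Function.Bijective τ₂)
    (h : ∀ a, φ₁ (τ₁ a) = τ₂ (φ a)) (ht : Tower p n A B φ) : Tower p n A₁ B₁ φ₁ :=
  tower_transport p n A B A₁ B₁ φ φ₁ (RingEquiv.ofBijective τ₁ h₁) (RingEquiv.ofBijective τ₂ h₂)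
    h ht

theorem tower_comp (p n : ℕ) : ∀ (A B : Type u) [CommRing A] [CommRing B] (φ : A →+* B),
    Tower p n A B φ → ∀ (m : ℕ) (E : Type u) [CommRing E] (ψ : B →+* E), Tower p m B E ψ →
      Tower p (m + n) A E (ψ.comp φ) := by
  induction n with
  | zero =>
    intro A B _ _ φ hφ m E _ ψ hψ
    show Tower p m A E (ψ.comp φ)
    exact tower_transport p m B E A E ψ (ψ.comp φ) (RingEquiv.ofBijective φ hφ).symm
      (RingEquiv.refl E) (fun b => by
        show ψ (φ ((RingEquiv.ofBijective φ hφ).symm b)) = ψ b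
        congr 1
        exact (RingEquiv.ofBijective φ hφ).apply_symm_apply b) hψ
  | succ n ih =>
    rintro A B _ _ φ ⟨a, x, hx, ht⟩ m E _ ψ hψ
    show Tower p ((m + n) + 1) A E (ψ.comp φ)
    have hx' : eval₂ (ψ.comp φ) (ψ x) (X ^ p - C a : A[X]) = 0 := by
      rw [← Polynomial.hom_eval₂, hx, map_zero]
    refine ⟨a, ψ x, hx', ?_⟩
    have h1 := ih _ B (AdjoinRoot.lift φ x hx) ht m E ψ hψ
    have e : ψ.comp (AdjoinRoot.lift φ x hx) = AdjoinRoot.lift (ψ.comp φ) (ψ x) hx' := by
      apply AdjoinRoot.ringHom_ext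
      · ext r
        simp only [RingHom.comp_apply, AdjoinRoot.lift_of]
      · simp only [RingHom.comp_apply, AdjoinRoot.lift_root]
    rw [← e]; exact h1

end Groth.Agent.H8.QTower
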