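import Mathlib
import Groth.Prelude.Def_W4c2gaugesfzipsQuiet
import Groth.Prelude.Def_Frob
import Groth.Agent.Lib.Helper8.Quiet2.Tower

set_option autoImplicit false
open scoped TensorProduct
open Polynomial

namespace Groth.Agent.H8.QTower

universe u

section P0

variable {A A' : Type u} [CommRing A] [CommRing A'] [Algebra A A']

/-- adjoining a root commutes with base change. -/
theorem isPushout_adjoinRoot (q : A[X]) (q' : A'[X]) (hqq' : q.map (algebraMap A A') = q')
    [Algebra (AdjoinRoot q) (AdjoinRoot q')] [IsScalarTower A (AdjoinRoot q) (AdjoinRoot q')]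
    (hroot : algebraMap (AdjoinRoot q) (AdjoinRoot q') (AdjoinRoot.root q) = AdjoinRoot.root q') :
    Algebra.IsPushout A A' (AdjoinRoot q) (AdjoinRoot q') := by
  let qq : (A' ⊗[A] A)[X] :=
    q.map (Algebra.TensorProduct.includeRight (R := A) (A := A') (B := A)).toRingHom
  let e1 : A' ⊗[A] AdjoinRoot q ≃ₐ[A'] AdjoinRoot qq :=
    AdjoinRoot.tensorAlgEquiv (R := A) (S := A) (T := A') q qq rfl
  let f : (A' ⊗[A] A) ≃ₐ[A'] A' := Algebra.TensorProduct.rid A A' A'
  have hc : (RingHomClass.toRingHom f).comp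
      (Algebra.TensorProduct.includeRight (R := A) (A := A') (B := A)).toRingHom =
        algebraMap A A' := by
    ext r
    simp [f, Algebra.algebraMap_eq_smul_one]
  have hmap : qq.map (RingHomClass.toRingHom f) = q' := by
    show (q.map _).map _ = q'
    rw [Polynomial.map_map, hc, hqq']
  let e2 : AdjoinRoot qq ≃ₐ[A'] AdjoinRoot q' :=
    AdjoinRoot.mapAlgEquiv f qq q' (by rw [hmap])
  letI : Algebra (AdjoinRoot q) (A' ⊗[A] AdjoinRoot q) :=
    Algebra.TensorProduct.rightAlgebra (R := A) (A := A') (B := AdjoinRoot q)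
  refine Algebra.IsPushout.of_equiv (R := A) (R' := A') (S := AdjoinRoot q)
    (S' := A' ⊗[A] AdjoinRoot q) (e1.trans e2) ?_
  apply AdjoinRoot.ringHom_ext
  · ext r
    simp only [RingHom.comp_apply]
    have h1 : algebraMap (AdjoinRoot q) (A' ⊗[A] AdjoinRoot q) (AdjoinRoot.of q r) =
        (1 : A') ⊗ₜ[A] AdjoinRoot.of q r := rfl
    rw [h1]
    show e2 (e1 ((1 : A') ⊗ₜ[A] AdjoinRoot.of q r)) = _
    rw [AdjoinRoot.tensorAlgEquiv_of]
    show AdjoinRoot.map (RingHomClass.toRingHom f) qq q' (by rw [hmap]) (AdjoinRoot.of qq ((1 : A') ⊗ₜ[A] r)) = _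
    rw [AdjoinRoot.map_of]
    have h2 : algebraMap (AdjoinRoot q) (AdjoinRoot q') (AdjoinRoot.of q r) =
        AdjoinRoot.of q' (algebraMap A A' r) := by
      rw [← AdjoinRoot.algebraMap_eq, ← IsScalarTower.algebraMap_apply,
        AdjoinRoot.algebraMap_eq', RingHom.comp_apply]
    rw [h2]
    congr 1
    simp [f, Algebra.algebraMap_eq_smul_one]
  · simp only [RingHom.comp_apply]
    have h1 : algebraMap (AdjoinRoot q) (A' ⊗[A] AdjoinRoot q) (AdjoinRoot.root q) =
        (1 : A') ⊗ₜ[A] AdjoinRoot.root q := rfl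
    rw [h1]
    show e2 (e1 ((1 : A') ⊗ₜ[A] AdjoinRoot.root q)) = _
    rw [AdjoinRoot.tensorAlgEquiv_root]
    show AdjoinRoot.map (RingHomClass.toRingHom f) qq q' (by rw [hmap]) (AdjoinRoot.root qq) = _
    rw [AdjoinRoot.map_root, hroot]

end P0

theorem tower_of_isPushout (p : ℕ) (n : ℕ) : ∀ (A A' B B' : Type u) [CommRing A] [CommRing A']
    [CommRing B] [CommRing B'] [Algebra A A'] [Algebra A B] [Algebra A' B'] [Algebra B B']
    [Algebra A B'] [IsScalarTower A A' B'] [IsScalarTower A B B']
    [Algebra.IsPushout A A' B B'], Tower p n A B (algebraMap A B) →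
      Tower p n A' B' (algebraMap A' B') := by
  induction n with
  | zero =>
    intro A A' B B' _ _ _ _ _ _ _ _ _ _ _ hpo h
    show Function.Bijective (algebraMap A' B')
    let eAB : A ≃ₐ[A] B := AlgEquiv.ofBijective (Algebra.ofId A B) h
    let E : A' ≃ₐ[A'] B' :=
      ((Algebra.TensorProduct.rid A A' A').symm.trans
        (Algebra.TensorProduct.congr AlgEquiv.refl eAB)).trans (Algebra.IsPushout.equiv A A' B B')
    have hE : (algebraMap A' B' : A' → B') = E := by
      funext x
      have := E.commutes x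
      rw [← this]; rfl
    rw [hE]; exact E.bijective
  | succ n ih =>
    rintro A A' B B' _ _ _ _ _ _ _ _ _ _ _ hpo ⟨a, x, hx, ht⟩
    have hx0 : x ^ p = algebraMap A B a := by
      rw [eval₂_root_poly] at hx; exact sub_eq_zero.mp hx
    have hx' : eval₂ (algebraMap A' B') (algebraMap B B' x)
        (X ^ p - C (algebraMap A A' a) : A'[X]) = 0 := by
      rw [eval₂_root_poly, ← map_pow, hx0, ← IsScalarTower.algebraMap_apply,
        ← IsScalarTower.algebraMap_apply, sub_self]
    refine ⟨algebraMap A A' a, algebraMap B B' x, hx', ?_⟩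
    -- instances
    letI algR₁B : Algebra (AdjoinRoot (X ^ p - C a : A[X])) B :=
      (AdjoinRoot.lift (algebraMap A B) x hx).toAlgebra
    have h12 : eval₂ ((AdjoinRoot.of (X ^ p - C (algebraMap A A' a) : A'[X])).comp
        (algebraMap A A')) (AdjoinRoot.root (X ^ p - C (algebraMap A A' a) : A'[X]))
        (X ^ p - C a : A[X]) = 0 := by
      rw [eval₂_root_poly, RingHom.comp_apply, root_pow_eq, sub_self]
    letI algR₁R₂ : Algebra (AdjoinRoot (X ^ p - C a : A[X]))
        (AdjoinRoot (X ^ p - C (algebraMap A A' a) : A'[X])) :=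
      (AdjoinRoot.lift ((AdjoinRoot.of (X ^ p - C (algebraMap A A' a) : A'[X])).comp
        (algebraMap A A')) (AdjoinRoot.root _) h12).toAlgebra
    letI algR₂B' : Algebra (AdjoinRoot (X ^ p - C (algebraMap A A' a) : A'[X])) B' :=
      (AdjoinRoot.lift (algebraMap A' B') (algebraMap B B' x) hx').toAlgebra
    letI algR₁B' : Algebra (AdjoinRoot (X ^ p - C a : A[X])) B' :=
      ((algebraMap B B').comp (algebraMap (AdjoinRoot (X ^ p - C a : A[X])) B)).toAlgebra
    haveI t1 : IsScalarTower A (AdjoinRoot (X ^ p - C a : A[X])) B :=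
      IsScalarTower.of_algebraMap_eq (fun r => by
        show algebraMap A B r = AdjoinRoot.lift (algebraMap A B) x hx
          (algebraMap A (AdjoinRoot (X ^ p - C a : A[X])) r)
        rw [AdjoinRoot.algebraMap_eq, AdjoinRoot.lift_of])
    haveI t2 : IsScalarTower A (AdjoinRoot (X ^ p - C a : A[X]))
        (AdjoinRoot (X ^ p - C (algebraMap A A' a) : A'[X])) :=
      IsScalarTower.of_algebraMap_eq (fun r => by
        show algebraMap A (AdjoinRoot (X ^ p - C (algebraMap A A' a) : A'[X])) r =
          AdjoinRoot.lift _ _ h12 (algebraMap A (AdjoinRoot (X ^ p - C a : A[X])) r)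
        rw [AdjoinRoot.algebraMap_eq, AdjoinRoot.lift_of, AdjoinRoot.algebraMap_eq'])
    haveI t3 : IsScalarTower A' (AdjoinRoot (X ^ p - C (algebraMap A A' a) : A'[X])) B' :=
      IsScalarTower.of_algebraMap_eq (fun r => by
        show algebraMap A' B' r = AdjoinRoot.lift (algebraMap A' B') (algebraMap B B' x) hx'
          (algebraMap A' (AdjoinRoot (X ^ p - C (algebraMap A A' a) : A'[X])) r)
        rw [AdjoinRoot.algebraMap_eq, AdjoinRoot.lift_of])
    haveI t4 : IsScalarTower (AdjoinRoot (X ^ p - C a : A[X])) B B' :=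
      IsScalarTower.of_algebraMap_eq (fun r => rfl)
    haveI t5 : IsScalarTower (AdjoinRoot (X ^ p - C a : A[X]))
        (AdjoinRoot (X ^ p - C (algebraMap A A' a) : A'[X])) B' := by
      refine IsScalarTower.of_algebraMap_eq (fun z => ?_)
      have key : (algebraMap (AdjoinRoot (X ^ p - C a : A[X])) B') =
          (algebraMap (AdjoinRoot (X ^ p - C (algebraMap A A' a) : A'[X])) B').comp
            (algebraMap (AdjoinRoot (X ^ p - C a : A[X]))
              (AdjoinRoot (X ^ p - C (algebraMap A A' a) : A'[X]))) := by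
        apply AdjoinRoot.ringHom_ext
        · ext r
          show algebraMap B B' (AdjoinRoot.lift (algebraMap A B) x hx (AdjoinRoot.of _ r)) =
            AdjoinRoot.lift (algebraMap A' B') (algebraMap B B' x) hx'
              (AdjoinRoot.lift _ _ h12 (AdjoinRoot.of _ r))
          rw [AdjoinRoot.lift_of, AdjoinRoot.lift_of, RingHom.comp_apply, AdjoinRoot.lift_of,
            ← IsScalarTower.algebraMap_apply, ← IsScalarTower.algebraMap_apply]
        · show algebraMap B B' (AdjoinRoot.lift (algebraMap A B) x hx (AdjoinRoot.root _)) =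
            AdjoinRoot.lift (algebraMap A' B') (algebraMap B B' x) hx'
              (AdjoinRoot.lift _ _ h12 (AdjoinRoot.root _))
          rw [AdjoinRoot.lift_root, AdjoinRoot.lift_root, AdjoinRoot.lift_root]
      exact congrArg (fun f => f z) key
    haveI t6 : IsScalarTower A (AdjoinRoot (X ^ p - C (algebraMap A A' a) : A'[X])) B' :=
      IsScalarTower.of_algebraMap_eq (fun r => by
        rw [IsScalarTower.algebraMap_apply A A' B',
          IsScalarTower.algebraMap_apply A' (AdjoinRoot (X ^ p - C (algebraMap A A' a) : A'[X])) B',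
          ← IsScalarTower.algebraMap_apply A A'])
    haveI t7 : IsScalarTower A (AdjoinRoot (X ^ p - C a : A[X])) B' :=
      IsScalarTower.of_algebraMap_eq (fun r => by
        rw [IsScalarTower.algebraMap_apply A B B',
          IsScalarTower.algebraMap_apply A (AdjoinRoot (X ^ p - C a : A[X])) B,
          ← IsScalarTower.algebraMap_apply (AdjoinRoot (X ^ p - C a : A[X])) B B'])
    haveI hP0 : Algebra.IsPushout A A' (AdjoinRoot (X ^ p - C a : A[X]))
        (AdjoinRoot (X ^ p - C (algebraMap A A' a) : A'[X])) :=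
      isPushout_adjoinRoot _ _ (by
        rw [Polynomial.map_sub, Polynomial.map_pow, Polynomial.map_X, Polynomial.map_C]) (by
        show AdjoinRoot.lift _ _ h12 (AdjoinRoot.root _) = _
        rw [AdjoinRoot.lift_root])
    haveI hP0' : Algebra.IsPushout A (AdjoinRoot (X ^ p - C a : A[X])) A'
        (AdjoinRoot (X ^ p - C (algebraMap A A' a) : A'[X])) := hP0.symm
    have hpo' : Algebra.IsPushout A B A' B' := hpo.symm
    have hpo2 : Algebra.IsPushout (AdjoinRoot (X ^ p - C a : A[X])) B
        (AdjoinRoot (X ^ p - C (algebraMap A A' a) : A'[X])) B' :=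
      (Algebra.IsPushout.comp_iff A (AdjoinRoot (X ^ p - C a : A[X])) A'
        (AdjoinRoot (X ^ p - C (algebraMap A A' a) : A'[X]))).mp hpo'
    haveI hpo3 : Algebra.IsPushout (AdjoinRoot (X ^ p - C a : A[X]))
        (AdjoinRoot (X ^ p - C (algebraMap A A' a) : A'[X])) B B' := hpo2.symm
    exact ih (AdjoinRoot (X ^ p - C a : A[X])) (AdjoinRoot (X ^ p - C (algebraMap A A' a) : A'[X]))
      B B' ht

end Groth.Agent.H8.QTower
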