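import Mathlib
import Groth.Prelude.Def_W4c2gaugesfzipsQuiet
import Groth.Prelude.Def_Frob
import Groth.Agent.Lib.Helper8.Quiet2.TowerBC

set_option autoImplicit false
open scoped TensorProduct
open Polynomial

namespace Groth.Agent.H8.QTower

universe u

/-- localization of a tower at an element of the base. -/
theorem tower_away (p n : ℕ) {A B : Type u} [CommRing A] [CommRing B] (φ : A →+* B)
    (ht : Tower p n A B φ) (h : A) (Ah Bh : Type u) [CommRing Ah] [CommRing Bh] [Algebra A Ah]
    [Algebra B Bh] [IsLocalization.Away h Ah] [IsLocalization.Away (φ h) Bh] :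
    Tower p n Ah Bh (IsLocalization.Away.map Ah Bh φ h) := by
  letI : Algebra A B := φ.toAlgebra
  letI : Algebra Ah Bh := (IsLocalization.Away.map Ah Bh φ h).toAlgebra
  letI : Algebra A Bh := ((algebraMap B Bh).comp φ).toAlgebra
  haveI : IsScalarTower A B Bh := IsScalarTower.of_algebraMap_eq (fun r => rfl)
  haveI : IsScalarTower A Ah Bh := IsScalarTower.of_algebraMap_eq (fun r => by
    show algebraMap B Bh (φ r) = IsLocalization.Away.map Ah Bh φ h (algebraMap A Ah r)
    rw [IsLocalization.Away.map, IsLocalization.map_eq])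
  haveI : IsLocalization (Algebra.algebraMapSubmonoid B (Submonoid.powers h)) Bh := by
    rw [Algebra.algebraMapSubmonoid_powers]
    exact (inferInstance : IsLocalization.Away (φ h) Bh)
  have hpo : Algebra.IsPushout A B Ah Bh :=
    Algebra.isPushout_of_isLocalization (Submonoid.powers h) Ah B Bh
  haveI := hpo.symm
  exact tower_of_isPushout p n A Ah B Bh ht

section Flat

variable (p : ℕ) [hp : Fact p.Prime]

theorem pow_add_of_char {R : Type u} [CommRing R] (hR : (p : R) = 0) (n : ℕ) (x y : R) :
    (x + y) ^ p ^ n = x ^ p ^ n + y ^ p ^ n := by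
  rcases subsingleton_or_nontrivial R with h | h
  · exact Subsingleton.elim _ _
  · haveI : CharP R p := (CharP.charP_iff_prime_eq_zero hp.out).2 hR
    exact add_pow_char_pow x y p n

theorem pow_sub_of_char {R : Type u} [CommRing R] (hR : (p : R) = 0) (n : ℕ) (x y : R) :
    (x - y) ^ p ^ n = x ^ p ^ n - y ^ p ^ n := by
  rcases subsingleton_or_nontrivial R with h | h
  · exact Subsingleton.elim _ _
  · haveI : CharP R p := (CharP.charP_iff_prime_eq_zero hp.out).2 hR
    exact sub_pow_char_pow x y n

/-- a tower in characteristic `p` has a Frobenius-type inverse. -/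
theorem tower_flat (n : ℕ) : ∀ (A B : Type u) [CommRing A] [CommRing B] (φ : A →+* B)
    (_ : (p : A) = 0), Tower p n A B φ →
      ∃ ψ : B →+* A, (∀ b, φ (ψ b) = b ^ p ^ n) ∧ ∀ a, ψ (φ a) = a ^ p ^ n := by
  induction n with
  | zero =>
    intro A B _ _ φ _ hφ
    refine ⟨((RingEquiv.ofBijective φ hφ).symm : B →+* A), fun b => ?_, fun a => ?_⟩
    · rw [pow_zero, pow_one]
      exact (RingEquiv.ofBijective φ hφ).apply_symm_apply b
    · rw [pow_zero, pow_one]
      exact (RingEquiv.ofBijective φ hφ).symm_apply_apply a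
  | succ n ih =>
    rintro A B _ _ φ hpA ⟨a, x, hx, ht⟩
    have hpR : (p : AdjoinRoot (X ^ p - C a : A[X])) = 0 := by
      have := congrArg (AdjoinRoot.of (X ^ p - C a : A[X])) hpA
      simpa using this
    obtain ⟨ψ', h1, h2⟩ := ih _ B (AdjoinRoot.lift φ x hx) hpR ht
    have hfl : eval₂ (FrobSch.powHom p A hpA) a (X ^ p - C a : A[X]) = 0 := by
      rw [eval₂_root_poly, FrobSch.powHom_apply, sub_self]
    let ι' : AdjoinRoot (X ^ p - C a : A[X]) →+* A :=
      AdjoinRoot.lift (FrobSch.powHom p A hpA) a hfl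
    have hι' : ∀ r : AdjoinRoot (X ^ p - C a : A[X]),
        AdjoinRoot.of (X ^ p - C a : A[X]) (ι' r) = r ^ p := by
      have key : (AdjoinRoot.of (X ^ p - C a : A[X])).comp ι' =
          FrobSch.powHom p (AdjoinRoot (X ^ p - C a : A[X])) hpR := by
        apply AdjoinRoot.ringHom_ext
        · ext r
          simp only [RingHom.comp_apply, ι', AdjoinRoot.lift_of, FrobSch.powHom_apply, map_pow]
        · simp only [RingHom.comp_apply, ι', AdjoinRoot.lift_root, FrobSch.powHom_apply]
          exact (root_pow_eq p a).symm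
      intro r
      exact congrArg (fun f => f r) key
    refine ⟨ι'.comp ψ', fun b => ?_, fun a₀ => ?_⟩
    · have e1 : φ (ι' (ψ' b)) =
          AdjoinRoot.lift φ x hx (AdjoinRoot.of (X ^ p - C a : A[X]) (ι' (ψ' b))) := by
        rw [AdjoinRoot.lift_of]
      rw [RingHom.comp_apply, e1, hι', map_pow, h1, ← pow_mul, ← pow_succ]
    · have e2 : ψ' (φ a₀) = (AdjoinRoot.of (X ^ p - C a : A[X]) a₀) ^ p ^ n := by
        rw [← h2, AdjoinRoot.lift_of]
      rw [RingHom.comp_apply, e2, map_pow]
      show (AdjoinRoot.lift (FrobSch.powHom p A hpA) a hfl (AdjoinRoot.of _ a₀)) ^ p ^ n = _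
      rw [AdjoinRoot.lift_of, FrobSch.powHom_apply, ← pow_mul, ← pow_succ']

end Flat

end Groth.Agent.H8.QTower
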