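import Mathlib
import Groth.Prelude.Def_W4c2gaugesfzipsQuiet
import Groth.Prelude.Def_Frob
import Groth.Agent.Lib.Helper8.Quiet2.RelFrob

set_option autoImplicit false
open scoped TensorProduct
open Polynomial

namespace Groth.Agent.H8.QTower

universe u

section

variable (p : ℕ) [hp : Fact p.Prime]

/-- iterated `p`-th power map. -/
noncomputable def powHomN (R : Type u) [CommRing R] (h : (p : R) = 0) : ℕ → (R →+* R)
  | 0 => RingHom.id R
  | n + 1 => (FrobSch.powHom p R h).comp (powHomN R h n)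

theorem powHomN_apply (R : Type u) [CommRing R] (h : (p : R) = 0) (n : ℕ) (r : R) :
    powHomN p R h n r = r ^ p ^ n := by
  induction n with
  | zero => simp [powHomN]
  | succ n ih =>
    show FrobSch.powHom p R h (powHomN p R h n r) = _
    rw [ih, FrobSch.powHom_apply, ← pow_mul, ← pow_succ]

/-- an étale ring map with a Frobenius-type inverse is bijective. -/
theorem bijective_of_etale_of_frobInv (n : ℕ) {C B : Type u} [CommRing C] [CommRing B]
    [Algebra C B] [Algebra.Etale C B] (hpC : (p : C) = 0) (ψ : B →+* C)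
    (h1 : ∀ c, ψ (algebraMap C B c) = c ^ p ^ n) (h2 : ∀ b, algebraMap C B (ψ b) = b ^ p ^ n) :
    Function.Bijective (algebraMap C B) := by
  have hq : 0 < p ^ n := pow_pos hp.out.pos n
  haveI : Module.Flat C B := inferInstance
  haveI : Module.FaithfullyFlat C B := by
    refine Module.FaithfullyFlat.of_comap_surjective (fun P => ?_)
    refine ⟨PrimeSpectrum.comap ψ P, PrimeSpectrum.ext ?_⟩
    ext c
    rw [PrimeSpectrum.comap_asIdeal, Ideal.mem_comap, PrimeSpectrum.comap_asIdeal,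
      Ideal.mem_comap, h1]
    exact P.isPrime.pow_mem_iff_mem _ hq
  have hpT : (p : B ⊗[C] B) = 0 := by
    have := congrArg (algebraMap C (B ⊗[C] B)) hpC
    simpa using this
  have hI0 : KaehlerDifferential.ideal C B = ⊥ := by
    have hidem : IsIdempotentElem (KaehlerDifferential.ideal C B) :=
      (Ideal.cotangent_subsingleton_iff _).mp (inferInstance : Subsingleton Ω[B⁄C])
    obtain ⟨e, he, hIe⟩ :=
      (Ideal.isIdempotentElem_iff_of_fg _ (KaehlerDifferential.ideal_fg C B)).mp hidem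
    have hnil : KaehlerDifferential.ideal C B ≤ nilradical (B ⊗[C] B) := by
      rw [← KaehlerDifferential.span_range_eq_ideal, Ideal.span_le]
      rintro _ ⟨b, rfl⟩
      show IsNilpotent ((1 : B) ⊗ₜ[C] b - b ⊗ₜ[C] (1 : B))
      refine ⟨p ^ n, ?_⟩
      rw [pow_sub_of_char p hpT, Algebra.TensorProduct.tmul_pow, Algebra.TensorProduct.tmul_pow,
        one_pow, ← h2, Algebra.algebraMap_eq_smul_one, TensorProduct.tmul_smul,
        TensorProduct.smul_tmul', sub_self]
    have hemem : e ∈ KaehlerDifferential.ideal C B := by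
      rw [hIe]; exact Submodule.mem_span_singleton_self e
    obtain ⟨k, hk⟩ := hnil hemem
    have he0 : e = 0 := by
      rcases k with _ | k
      · rw [pow_zero] at hk
        rw [← mul_one e, hk, mul_zero]
      · rw [← he.pow_succ_eq k]; exact hk
    rw [hIe, he0]
    simp
  have hinj : Function.Injective (Algebra.TensorProduct.lmul' (S := B) C) :=
    (RingHom.injective_iff_ker_eq_bot _).mpr hI0
  let f : C →ₗ[C] B := Algebra.linearMap C B
  have hcomp : ∀ t : B ⊗[C] C,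
      Algebra.TensorProduct.lmul' (S := B) C (f.lTensor B t) = TensorProduct.rid C B t := by
    intro t
    induction t using TensorProduct.induction_on with
    | zero => simp
    | tmul b c =>
      simp only [LinearMap.lTensor_tmul, Algebra.TensorProduct.lmul'_apply_tmul, f,
        Algebra.linearMap_apply, TensorProduct.rid_tmul]
      rw [Algebra.smul_def, mul_comm]
    | add x y hx hy => simp only [map_add, hx, hy]
  have hbij : Function.Bijective (f.lTensor B) := by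
    constructor
    · intro s t hst
      apply (TensorProduct.rid C B).injective
      rw [← hcomp, ← hcomp, hst]
    · intro t
      refine ⟨(TensorProduct.rid C B).symm (Algebra.TensorProduct.lmul' (S := B) C t), ?_⟩
      apply hinj
      rw [hcomp, LinearEquiv.apply_symm_apply]
  exact (Module.FaithfullyFlat.lTensor_bijective_iff_bijective C B f).mp hbij

/-- ring-hom form of the universal property of the tensor product. -/
theorem exists_pushoutDesc {R S T U : Type u} [CommRing R] [CommRing S] [CommRing T] [CommRing U]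
    [Algebra R S] [Algebra R T] (f : S →+* U) (g : T →+* U)
    (h : ∀ r, f (algebraMap R S r) = g (algebraMap R T r)) :
    ∃ ρ : S ⊗[R] T →+* U, ∀ s t, ρ (s ⊗ₜ[R] t) = f s * g t := by
  letI : Algebra R U := (f.comp (algebraMap R S)).toAlgebra
  let f' : S →ₐ[R] U := { f with commutes' := fun r => rfl }
  let g' : T →ₐ[R] U := { g with commutes' := fun r => (h r).symm }
  exact ⟨(Algebra.TensorProduct.lift f' g' (fun _ _ => Commute.all _ _)).toRingHom,
    fun s t => Algebra.TensorProduct.lift_tmul f' g' _ s t⟩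

/-- descent of étale algebras along a ring map with a Frobenius-type inverse. -/
theorem exists_etale_descent (n : ℕ) {A A' B : Type u} [CommRing A] [CommRing A'] [CommRing B]
    [Algebra A A'] [Algebra A' B] [Algebra.Etale A' B] (hpA' : (p : A') = 0)
    (fl : A' →+* A) (h1 : ∀ x, algebraMap A A' (fl x) = x ^ p ^ n)
    (h2 : ∀ a, fl (algebraMap A A' a) = a ^ p ^ n) :
    ∃ (B₀ : Type u) (_ : CommRing B₀) (_ : Algebra A B₀) (_ : Algebra.Etale A B₀)
      (σ : A' ⊗[A] B₀ →+* B), Function.Bijective σ ∧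
        ∀ x : A', σ (x ⊗ₜ[A] (1 : B₀)) = algebraMap A' B x := by
  have hq : 0 < p ^ n := pow_pos hp.out.pos n
  letI algfl : Algebra A' A := fl.toAlgebra
  haveI hEt0 : Algebra.Etale A (A ⊗[A'] B) := Algebra.Etale.baseChange A' B A
  have hpB : (p : B) = 0 := by
    have := congrArg (algebraMap A' B) hpA'
    simpa using this
  -- `ρ : A ⊗[A'] B → B`
  obtain ⟨ρ, hρ⟩ := exists_pushoutDesc (R := A') (S := A) (T := B) (U := B)
    ((algebraMap A' B).comp (algebraMap A A')) (powHomN p B hpB n) (fun c => by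
      rw [RingHom.comp_apply, powHomN_apply]
      show algebraMap A' B (algebraMap A A' (fl c)) = _
      rw [h1, map_pow])
  -- `σ : A' ⊗[A] (A ⊗[A'] B) → B`
  obtain ⟨σ, hσ⟩ := exists_pushoutDesc (R := A) (S := A') (T := A ⊗[A'] B) (U := B)
    (algebraMap A' B) ρ (fun a => by
      rw [Algebra.TensorProduct.algebraMap_apply, hρ, RingHom.comp_apply, map_one, mul_one]
      rfl)
  have hρ' : ∀ a b, ρ (a ⊗ₜ[A'] b) = algebraMap A' B (algebraMap A A' a) * b ^ p ^ n := by
    intro a b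
    rw [hρ, RingHom.comp_apply, powHomN_apply]
  refine ⟨A ⊗[A'] B, inferInstance, inferInstance, hEt0, σ, ?_, fun x => ?_⟩
  swap
  · rw [hσ, map_one, mul_one]
  -- the inverse up to Frobenius
  let ψ : B →+* A' ⊗[A] (A ⊗[A'] B) :=
    (Algebra.TensorProduct.includeRight (R := A) (A := A') (B := A ⊗[A'] B)).toRingHom.comp
      (Algebra.TensorProduct.includeRight (R := A') (A := A) (B := B)).toRingHom
  have hψ : ∀ b, ψ b = (1 : A') ⊗ₜ[A] ((1 : A) ⊗ₜ[A'] b) := fun b => rfl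
  have hpC : (p : A' ⊗[A] (A ⊗[A'] B)) = 0 := by
    have := congrArg (algebraMap A' (A' ⊗[A] (A ⊗[A'] B))) hpA'
    simpa using this
  have hσψ : ∀ b, σ (ψ b) = b ^ p ^ n := by
    intro b
    rw [hψ, hσ, hρ']
    simp only [map_one, one_mul]
  have hψσ : ∀ c : A' ⊗[A] (A ⊗[A'] B), ψ (σ c) = c ^ p ^ n := by
    intro c
    induction c using TensorProduct.induction_on with
    | zero => rw [map_zero, map_zero, zero_pow hq.ne']
    | add c₁ c₂ h₁ h₂ => rw [map_add, map_add, h₁, h₂, pow_add_of_char p hpC]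
    | tmul x y =>
      induction y using TensorProduct.induction_on with
      | zero => rw [TensorProduct.tmul_zero, map_zero, map_zero, zero_pow hq.ne']
      | add y₁ y₂ h₁ h₂ =>
        rw [TensorProduct.tmul_add, map_add, map_add, h₁, h₂, pow_add_of_char p hpC]
      | tmul a b =>
        rw [hσ, hρ', hψ]
        have e1 : algebraMap A' B x * (algebraMap A' B (algebraMap A A' a) * b ^ p ^ n) =
            (x * algebraMap A A' a) • (b ^ p ^ n) := by
          rw [Algebra.smul_def, map_mul, mul_assoc]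
        have e2 : ((1 : A) ⊗ₜ[A'] ((x * algebraMap A A' a) • (b ^ p ^ n)) : A ⊗[A'] B) =
            ((x * algebraMap A A' a) • (1 : A)) ⊗ₜ[A'] (b ^ p ^ n) :=
          (TensorProduct.smul_tmul (x * algebraMap A A' a) (1 : A) (b ^ p ^ n)).symm
        have e3 : (x * algebraMap A A' a) • (1 : A) = fl x * a ^ p ^ n := by
          rw [Algebra.smul_def, mul_one]
          show fl (x * algebraMap A A' a) = _
          rw [map_mul, h2]
        have e4 : ((fl x * a ^ p ^ n) ⊗ₜ[A'] (b ^ p ^ n) : A ⊗[A'] B) =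
            (fl x * a ^ p ^ n) • ((1 : A) ⊗ₜ[A'] (b ^ p ^ n)) := by
          rw [TensorProduct.smul_tmul', smul_eq_mul, mul_one]
        have e5 : ((1 : A') ⊗ₜ[A] ((fl x * a ^ p ^ n) • ((1 : A) ⊗ₜ[A'] (b ^ p ^ n) : A ⊗[A'] B)) :
            A' ⊗[A] (A ⊗[A'] B)) =
            ((fl x * a ^ p ^ n) • (1 : A')) ⊗ₜ[A] ((1 : A) ⊗ₜ[A'] (b ^ p ^ n)) :=
          (TensorProduct.smul_tmul (fl x * a ^ p ^ n) (1 : A')
            ((1 : A) ⊗ₜ[A'] (b ^ p ^ n) : A ⊗[A'] B)).symm
        have e6 : (fl x * a ^ p ^ n) • (1 : A') = x ^ p ^ n * (algebraMap A A' a) ^ p ^ n := by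
          rw [Algebra.smul_def, mul_one, map_mul, h1, map_pow]
        rw [e1, e2, e3, e4, e5, e6, Algebra.TensorProduct.tmul_pow, Algebra.TensorProduct.tmul_pow]
        have e7 : ((a ^ p ^ n) ⊗ₜ[A'] (b ^ p ^ n) : A ⊗[A'] B) =
            (a ^ p ^ n) • ((1 : A) ⊗ₜ[A'] (b ^ p ^ n)) := by
          rw [TensorProduct.smul_tmul', smul_eq_mul, mul_one]
        have e8 : ((x ^ p ^ n) ⊗ₜ[A] ((a ^ p ^ n) • ((1 : A) ⊗ₜ[A'] (b ^ p ^ n) : A ⊗[A'] B)) :
            A' ⊗[A] (A ⊗[A'] B)) =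
            ((a ^ p ^ n) • (x ^ p ^ n)) ⊗ₜ[A] ((1 : A) ⊗ₜ[A'] (b ^ p ^ n)) :=
          (TensorProduct.smul_tmul (a ^ p ^ n) (x ^ p ^ n)
            ((1 : A) ⊗ₜ[A'] (b ^ p ^ n) : A ⊗[A'] B)).symm
        rw [e7, e8, Algebra.smul_def, map_pow, mul_comm]
  -- apply the bijectivity criterion
  letI algCB : Algebra (A' ⊗[A] (A ⊗[A'] B)) B := σ.toAlgebra
  haveI : IsScalarTower A' (A' ⊗[A] (A ⊗[A'] B)) B :=
    IsScalarTower.of_algebraMap_eq (fun x => by
      show algebraMap A' B x = σ (algebraMap A' (A' ⊗[A] (A ⊗[A'] B)) x)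
      rw [Algebra.TensorProduct.algebraMap_apply, hσ, map_one, mul_one]
      rfl)
  haveI : Algebra.Etale A' (A' ⊗[A] (A ⊗[A'] B)) := Algebra.Etale.baseChange A (A ⊗[A'] B) A'
  haveI : Algebra.Etale (A' ⊗[A] (A ⊗[A'] B)) B :=
    Algebra.Etale.of_restrictScalars A' (A' ⊗[A] (A ⊗[A'] B)) B
  exact bijective_of_etale_of_frobInv p n hpC ψ hψσ hσψ

/-- étale after a tower can be rewritten as a tower after étale. -/
theorem exists_swap (m : ℕ) {B₂ D₂ E : Type u} [CommRing B₂] [CommRing D₂] [CommRing E]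
    (φ₂ : B₂ →+* D₂) (h₂ : Tower p m B₂ D₂ φ₂) (hpB : (p : B₂) = 0) (θ : D₂ →+* E)
    (hθ : θ.Etale) :
    ∃ (B₄ : Type u) (_ : CommRing B₄) (α : B₂ →+* B₄) (β : B₄ →+* E),
      α.Etale ∧ Tower p m B₄ E β ∧ β.comp α = θ.comp φ₂ := by
  obtain ⟨fl, hfl1, hfl2⟩ := tower_flat p m B₂ D₂ φ₂ hpB h₂
  letI : Algebra B₂ D₂ := φ₂.toAlgebra
  letI : Algebra D₂ E := θ.toAlgebra
  haveI : Algebra.Etale D₂ E := hθ.toAlgebra
  have hpD : (p : D₂) = 0 := by
    have := congrArg φ₂ hpB
    simpa using this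
  obtain ⟨B₀, _, _, hEt, σ, hσbij, hσ⟩ := exists_etale_descent p m (B := E) hpD fl hfl1 hfl2
  refine ⟨B₀, inferInstance, algebraMap B₂ B₀,
    σ.comp (Algebra.TensorProduct.includeRight (R := B₂) (A := D₂) (B := B₀)).toRingHom,
    RingHom.etale_algebraMap.mpr hEt, ?_, ?_⟩
  · letI : Algebra B₀ (D₂ ⊗[B₂] B₀) := Algebra.TensorProduct.rightAlgebra
    haveI hpo : Algebra.IsPushout B₂ B₀ D₂ (D₂ ⊗[B₂] B₀) := TensorProduct.isPushout'
    have ht : Tower p m B₀ (D₂ ⊗[B₂] B₀) (algebraMap B₀ (D₂ ⊗[B₂] B₀)) :=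
      tower_of_isPushout p m B₂ B₀ D₂ (D₂ ⊗[B₂] B₀) h₂
    exact tower_transport' p m (algebraMap B₀ (D₂ ⊗[B₂] B₀)) _ (RingHom.id B₀) σ
      Function.bijective_id hσbij (fun b => rfl) ht
  · ext b
    show σ ((1 : D₂) ⊗ₜ[B₂] (algebraMap B₂ B₀ b)) = θ (φ₂ b)
    have e1 : ((1 : D₂) ⊗ₜ[B₂] (algebraMap B₂ B₀ b) : D₂ ⊗[B₂] B₀) =
        (algebraMap B₂ D₂ b) ⊗ₜ[B₂] (1 : B₀) := by
      rw [Algebra.algebraMap_eq_smul_one, Algebra.algebraMap_eq_smul_one]
      exact (TensorProduct.smul_tmul b (1 : D₂) (1 : B₀)).symm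
    rw [e1, hσ]
    rfl

/-- the ring-level input for composing two quasi-étale charts. -/
theorem exists_comp_chart (m n : ℕ) {B₂ D₂ Bh Dh : Type u} [CommRing B₂] [CommRing D₂]
    [CommRing Bh] [CommRing Dh] (φ₂ : B₂ →+* D₂) (h₂ : Tower p m B₂ D₂ φ₂)
    (hpB : (p : B₂) = 0) (θ : D₂ →+* Bh) (hθ : θ.Etale) (φh : Bh →+* Dh)
    (hh : Tower p n Bh Dh φh) :
    ∃ (B₄ : Type u) (_ : CommRing B₄) (α : B₂ →+* B₄) (β : B₄ →+* Dh) (k : ℕ),
      α.Etale ∧ Tower p k B₄ Dh β ∧ β.comp α = φh.comp (θ.comp φ₂) := by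
  obtain ⟨B₄, _, α, β₀, hα, hβ₀, hcomm⟩ := exists_swap p m φ₂ h₂ hpB θ hθ
  refine ⟨B₄, inferInstance, α, φh.comp β₀, n + m, hα,
    tower_comp p m B₄ Bh β₀ hβ₀ n Dh φh hh, ?_⟩
  rw [RingHom.comp_assoc, hcomm]

end

end Groth.Agent.H8.QTower
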