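import Mathlib
import Groth.Prelude.Def_W4c2gaugesfzipsQuiet
import Groth.Prelude.Def_Frob
import Groth.Agent.Lib.Helper8.Quiet2.EtDesc

set_option autoImplicit false
open CategoryTheory AlgebraicGeometry

namespace Groth.Agent.H8.QTower

universe u

/-- affine chart of a quasi-étale morphism at a point. -/
def HasChart (p : ℕ) {X Y : Scheme.{u}} (f : Y ⟶ X) (y : Y) : Prop :=
  ∃ (B D : CommRingCat.{u}) (φ : B ⟶ D) (n : ℕ) (j : Spec D ⟶ Y) (e : Spec B ⟶ X),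
    IsOpenImmersion j ∧ (∃ d : Spec D, j d = y) ∧ Etale e ∧ Tower p n B D φ.hom ∧
      Spec.map φ ≫ e = j ≫ f

theorem hasChart_of_isQuiet {p : ℕ} {X Y : Scheme.{u}} {f : Y ⟶ X} (hf : Quiet.IsQuiet p f)
    (y : Y) : HasChart p f y := by
  obtain ⟨V, Y', r, e, hyV, hr, he, hcomm⟩ := hf y
  obtain ⟨U, hU, hUaff, h4⟩ := hr (r ⟨y, hyV⟩)
  obtain ⟨n, hn⟩ := h4
  have htow : Tower p n Γ(Y', U.1) Γ(V, r ⁻¹ᵁ U.1) (r.app U.1).hom := by
    letI := (r.app U.1).hom.toAlgebra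
    exact (isRootTower_iff p n _ _).mp hn
  haveI := he
  refine ⟨Γ(Y', U.1), Γ(V, r ⁻¹ᵁ U.1), r.app U.1, n, hUaff.fromSpec ≫ V.ι, U.2.fromSpec ≫ e,
    inferInstance, ?_, inferInstance, htow, ?_⟩
  · have hmem : (⟨y, hyV⟩ : V) ∈ Set.range hUaff.fromSpec := by
      rw [hUaff.range_fromSpec]; exact hU
    obtain ⟨d, hd⟩ := hmem
    refine ⟨d, ?_⟩
    rw [Scheme.Hom.comp_apply, hd]
    rfl
  · rw [← Category.assoc, Scheme.Hom.app_eq_appLE, IsAffineOpen.SpecMap_appLE_fromSpec,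
      Category.assoc, hcomm, Category.assoc]

theorem isPthRoot_of_tower {p n : ℕ} {V : Scheme.{u}} {B D : CommRingCat.{u}} (φ : B ⟶ D)
    (ht : Tower p n B D φ.hom) (ε : V ⟶ Spec D) [IsIso ε] :
    Quiet.IsPthRoot p (ε ≫ Spec.map φ) := by
  intro x
  haveI : IsAffine V := IsAffine.of_isIso ε
  refine ⟨⟨⊤, isAffineOpen_top (Spec B)⟩, trivial, isAffineOpen_top V, n, ?_⟩
  letI := ((ε ≫ Spec.map φ).app ⊤).hom.toAlgebra
  refine (isRootTower_iff p n _ _).mpr ?_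
  have N := Scheme.ΓSpecIso_naturality φ
  have N' : (Scheme.ΓSpecIso B).inv ≫ (Spec.map φ).appTop = φ ≫ (Scheme.ΓSpecIso D).inv := by
    rw [Iso.inv_comp_eq, ← Category.assoc, Iso.eq_comp_inv]
    exact N
  have key : (Scheme.ΓSpecIso B).inv ≫ (ε ≫ Spec.map φ).appTop =
      φ ≫ (Scheme.ΓSpecIso D).inv ≫ ε.appTop := by
    rw [Scheme.Hom.comp_appTop, ← Category.assoc, N', Category.assoc]
  haveI : IsIso ε.appTop := inferInstanceAs (IsIso (ε.app ⊤))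
  refine tower_transport' p n φ.hom ((ε ≫ Spec.map φ).app ⊤).hom (Scheme.ΓSpecIso B).inv.hom
    ((Scheme.ΓSpecIso D).inv ≫ ε.appTop).hom
    (ConcreteCategory.bijective_of_isIso (Scheme.ΓSpecIso B).inv)
    (ConcreteCategory.bijective_of_isIso ((Scheme.ΓSpecIso D).inv ≫ ε.appTop)) (fun b => ?_) ht
  have h3 : ((Scheme.ΓSpecIso B).inv ≫ (ε ≫ Spec.map φ).appTop).hom b =
      (φ ≫ (Scheme.ΓSpecIso D).inv ≫ ε.appTop).hom b := by rw [key]
  exact h3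

theorem isQuiet_of_hasChart {p : ℕ} {X Y : Scheme.{u}} {f : Y ⟶ X}
    (h : ∀ y, HasChart p f y) : Quiet.IsQuiet p f := by
  intro y
  obtain ⟨B, D, φ, n, j, e, hj, ⟨d, hd⟩, he, htow, hcomm⟩ := h y
  haveI := hj
  refine ⟨j.opensRange, Spec B, j.isoOpensRange.inv ≫ Spec.map φ, e, ⟨d, hd⟩,
    isPthRoot_of_tower φ htow _, he, ?_⟩
  rw [Category.assoc, hcomm, ← Category.assoc, Scheme.Hom.isoOpensRange_inv_comp]

theorem natCast_eq_zero_of_hom (p : ℕ) {X : Scheme.{u}} [FrobSch.IsCharP X p]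
    {B : CommRingCat.{u}} (e : Spec B ⟶ X) : (p : B) = 0 := by
  haveI : FrobSch.IsCharP (Spec B) p := FrobSch.IsCharP.of_hom e p
  have h := FrobSch.IsCharP.natCast_eq_zero (X := Spec B) (p := p)
  have h2 := congrArg (Scheme.ΓSpecIso B).hom.hom h
  simpa using h2

end Groth.Agent.H8.QTower
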