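import Mathlib
import Groth.Prelude.Def_W4c2gaugesfzipsQuiet
import Groth.Prelude.Def_Frob
import Groth.Agent.Lib.Helper8.Quiet2.Chart

set_option autoImplicit false
open CategoryTheory AlgebraicGeometry

namespace Groth.Agent.H8.QTower

universe u

/-- bundled affine chart of a quasi-étale morphism at a point. -/
structure Chart (p : ℕ) {X Y : Scheme.{u}} (f : Y ⟶ X) (y : Y) where
  B : CommRingCat.{u}
  D : CommRingCat.{u}
  φ : B ⟶ D
  n : ℕ
  j : Spec D ⟶ Y
  e : Spec B ⟶ X
  hj : IsOpenImmersion j
  d : Spec D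
  hd : j d = y
  he : Etale e
  htow : Tower p n B D φ.hom
  hcomm : Spec.map φ ≫ e = j ≫ f

attribute [instance] Chart.hj Chart.he

variable {p : ℕ} {X Y : Scheme.{u}} {f : Y ⟶ X} {y : Y}

theorem HasChart.nonempty_chart (h : HasChart p f y) : Nonempty (Chart p f y) := by
  obtain ⟨B, D, φ, n, j, e, hj, ⟨d, hd⟩, he, htow, hcomm⟩ := h
  exact ⟨⟨B, D, φ, n, j, e, hj, d, hd, he, htow, hcomm⟩⟩

theorem Chart.hasChart (c : Chart p f y) : HasChart p f y :=
  ⟨c.B, c.D, c.φ, c.n, c.j, c.e, c.hj, ⟨c.d, c.hd⟩, c.he, c.htow, c.hcomm⟩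

/-- the base point of the chart in `Spec B`. -/
noncomputable def Chart.b (c : Chart p f y) : Spec c.B := (Spec.map c.φ) c.d

theorem Chart.e_b (c : Chart p f y) : c.e c.b = f y := by
  have h := congrArg (fun m => m c.d) c.hcomm
  simp only [Scheme.Hom.comp_apply] at h
  rw [Chart.b, h, c.hd]

theorem Chart.sq (c : Chart p f y) (h : c.B) :
    CommRingCat.ofHom (algebraMap c.B (Localization.Away h)) ≫
      CommRingCat.ofHom (IsLocalization.Away.map (Localization.Away h)
        (Localization.Away (c.φ.hom h)) c.φ.hom h) =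
      c.φ ≫ CommRingCat.ofHom (algebraMap c.D (Localization.Away (c.φ.hom h))) := by
  ext r
  simp [IsLocalization.Away.map]

theorem Chart.exists_point (c : Chart p f y) (h : c.B)
    (hh : c.b ∈ PrimeSpectrum.basicOpen h) :
    ∃ d' : Spec (CommRingCat.of (Localization.Away (c.φ.hom h))),
      (Spec.map (CommRingCat.ofHom (algebraMap c.D (Localization.Away (c.φ.hom h))))) d' = c.d := by
  have hd' : c.d ∈ (Spec.map (CommRingCat.ofHom
      (algebraMap c.D (Localization.Away (c.φ.hom h))))).opensRange := by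
    rw [Scheme.Hom.opensRange_localizationAway]
    exact hh
  exact hd'

/-- shrinking a chart to a basic open of `Spec B` containing the base point. -/
noncomputable def Chart.shrink (c : Chart p f y) (h : c.B)
    (hh : c.b ∈ PrimeSpectrum.basicOpen h) : Chart p f y where
  B := CommRingCat.of (Localization.Away h)
  D := CommRingCat.of (Localization.Away (c.φ.hom h))
  φ := CommRingCat.ofHom (IsLocalization.Away.map (Localization.Away h)
        (Localization.Away (c.φ.hom h)) c.φ.hom h)
  n := c.n
  j := Spec.map (CommRingCat.ofHom (algebraMap c.D (Localization.Away (c.φ.hom h)))) ≫ c.j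
  e := Spec.map (CommRingCat.ofHom (algebraMap c.B (Localization.Away h))) ≫ c.e
  hj := by haveI := c.hj; infer_instance
  d := (c.exists_point h hh).choose
  hd := by
    rw [Scheme.Hom.comp_apply, (c.exists_point h hh).choose_spec, c.hd]
  he := by haveI := c.he; infer_instance
  htow := tower_away p c.n c.φ.hom c.htow h _ _
  hcomm := by
    rw [← Category.assoc, ← Spec.map_comp, c.sq h, Spec.map_comp, Category.assoc, c.hcomm,
      Category.assoc]

theorem Chart.shrink_b (c : Chart p f y) (h : c.B) (hh : c.b ∈ PrimeSpectrum.basicOpen h) :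
    (Spec.map (CommRingCat.ofHom (algebraMap c.B (Localization.Away h)))) (c.shrink h hh).b =
      c.b := by
  have h1 := congrArg (fun m => m (c.shrink h hh).d) (congrArg Spec.map (c.sq h))
  simp only [Spec.map_comp, Scheme.Hom.comp_apply] at h1
  have h2 : (Spec.map (CommRingCat.ofHom (algebraMap c.D (Localization.Away (c.φ.hom h)))))
      (c.shrink h hh).d = c.d := (c.exists_point h hh).choose_spec
  rw [h2] at h1
  exact h1

/-- for an open set containing the image of the base point, shrink the chart into it. -/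
theorem Chart.exists_shrink_le (c : Chart p f y) (O : X.Opens) (hO : f y ∈ O) :
    ∃ (h : c.B) (hh : c.b ∈ PrimeSpectrum.basicOpen h),
      Set.range (c.shrink h hh).e ⊆ O := by
  have hbO : c.b ∈ c.e ⁻¹ᵁ O := by
    show c.e c.b ∈ O
    rw [c.e_b]; exact hO
  obtain ⟨_, ⟨_, ⟨h, rfl⟩, rfl⟩, hbh, hhle⟩ :=
    PrimeSpectrum.isBasis_basic_opens.exists_subset_of_mem_open hbO (c.e ⁻¹ᵁ O).isOpen
  refine ⟨h, hbh, ?_⟩
  rintro _ ⟨x, rfl⟩
  have hx : (Spec.map (CommRingCat.ofHom (algebraMap c.B (Localization.Away h)))) x ∈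
      (Spec.map (CommRingCat.ofHom (algebraMap c.B (Localization.Away h)))).opensRange := ⟨x, rfl⟩
  rw [Scheme.Hom.opensRange_localizationAway] at hx
  have h5 := hhle hx
  show (Spec.map (CommRingCat.ofHom (algebraMap c.B (Localization.Away h))) ≫ c.e) x ∈ O
  rw [Scheme.Hom.comp_apply]
  exact h5

/-- transporting a pullback square with corner `Spec D` to the open range of the chart. -/
theorem Chart.isPullback_opensRange (c : Chart p f y) {T' T : Scheme.{u}} (q : T' ⟶ T)
    (i : X ⟶ T) (k : Spec c.D ⟶ T') (hpb : IsPullback k (Spec.map c.φ ≫ c.e) q i) :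
    IsPullback (c.j.isoOpensRange.inv ≫ k) (c.j.opensRange.ι ≫ f) q i := by
  refine IsPullback.of_iso hpb c.j.isoOpensRange (Iso.refl _) (Iso.refl _) (Iso.refl _)
    ?_ ?_ ?_ ?_
  · simp
  · rw [Iso.refl_hom, Category.comp_id, ← Category.assoc, Scheme.Hom.isoOpensRange_hom_ι,
      c.hcomm]
  · simp
  · simp

end Groth.Agent.H8.QTower
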