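import Mathlib
import Groth.Prelude.Def_W4c2gaugesfzipsQuiet
import Groth.Prelude.Def_Frob
import Groth.Agent.Lib.Helper8.Quiet2.Chart2
import Groth.Agent.Lib.Helper8.Quiet2.TowerBC

set_option autoImplicit false
open CategoryTheory AlgebraicGeometry Limits

namespace Groth.Agent.H8.QTower

universe u

/-- base change of a tower along a categorical pushout of commutative rings. -/
theorem tower_pushout_inr (p n : ℕ) {B D C : CommRingCat.{u}} (φ : B ⟶ D) (ψ : B ⟶ C)
    (h : Tower p n B D φ.hom) :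
    Tower p n C (pushout φ ψ : CommRingCat.{u}) (pushout.inr φ ψ).hom := by
  letI : Algebra B C := ψ.hom.toAlgebra
  letI : Algebra B D := φ.hom.toAlgebra
  letI : Algebra C (pushout φ ψ : CommRingCat.{u}) := (pushout.inr φ ψ).hom.toAlgebra
  letI : Algebra D (pushout φ ψ : CommRingCat.{u}) := (pushout.inl φ ψ).hom.toAlgebra
  letI : Algebra B (pushout φ ψ : CommRingCat.{u}) := (ψ ≫ pushout.inr φ ψ).hom.toAlgebra
  haveI : IsScalarTower B C (pushout φ ψ : CommRingCat.{u}) :=
    IsScalarTower.of_algebraMap_eq (fun r => rfl)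
  haveI : IsScalarTower B D (pushout φ ψ : CommRingCat.{u}) :=
    IsScalarTower.of_algebraMap_eq (fun r => by
      show (ψ ≫ pushout.inr φ ψ).hom r = (φ ≫ pushout.inl φ ψ).hom r
      rw [pushout.condition])
  have hpo : IsPushout (CommRingCat.ofHom (algebraMap B C)) (CommRingCat.ofHom (algebraMap B D))
      (CommRingCat.ofHom (algebraMap C (pushout φ ψ : CommRingCat.{u})))
      (CommRingCat.ofHom (algebraMap D (pushout φ ψ : CommRingCat.{u}))) :=
    (IsPushout.of_hasPushout φ ψ).flip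
  haveI : Algebra.IsPushout B C D (pushout φ ψ : CommRingCat.{u}) :=
    CommRingCat.isPushout_iff_isPushout.mp hpo
  exact tower_of_isPushout p n B C D (pushout φ ψ : CommRingCat.{u}) h

theorem hasChart_baseChange {p : ℕ} {X Y X' Y' : Scheme.{u}}
    (f : Y ⟶ X) (g : X' ⟶ X) (f' : Y' ⟶ X') (g' : Y' ⟶ Y) (H : IsPullback g' f' f g)
    (y' : Y') (c : Chart p f (g' y')) : HasChart p f' y' := by
  have sqL : IsPullback (pullback.snd (Spec.map c.φ) (pullback.fst c.e g))
      (pullback.fst (Spec.map c.φ) (pullback.fst c.e g)) (pullback.fst c.e g) (Spec.map c.φ) :=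
    (IsPullback.of_hasPullback _ _).flip
  have sqR : IsPullback (pullback.snd c.e g) (pullback.fst c.e g) g c.e :=
    (IsPullback.of_hasPullback _ _).flip
  have sqB := sqL.paste_horiz sqR
  rw [c.hcomm] at sqB
  have sqM := IsPullback.of_right' sqB H.flip
  have hm_f' : H.flip.lift (pullback.snd (Spec.map c.φ) (pullback.fst c.e g) ≫ pullback.snd c.e g)
      (pullback.fst (Spec.map c.φ) (pullback.fst c.e g) ≫ c.j) (by rw [sqB.w, Category.assoc]) ≫
        f' = pullback.snd (Spec.map c.φ) (pullback.fst c.e g) ≫ pullback.snd c.e g :=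
    H.flip.lift_fst _ _ _
  generalize H.flip.lift (pullback.snd (Spec.map c.φ) (pullback.fst c.e g) ≫ pullback.snd c.e g)
      (pullback.fst (Spec.map c.φ) (pullback.fst c.e g) ≫ c.j) (by rw [sqB.w, Category.assoc]) = m
      at sqM hm_f'
  haveI : IsOpenImmersion m :=
    MorphismProperty.of_isPullback (P := @IsOpenImmersion) sqM.flip c.hj
  obtain ⟨z, hz1, hz2⟩ := Scheme.exists_preimage_of_isPullback sqM y' c.d c.hd.symm
  obtain ⟨C, ιC, hιC, cpt, hcpt⟩ := Scheme.exists_Spec_apply_eq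
    (pullback.snd (Spec.map c.φ) (pullback.fst c.e g) z)
  obtain ⟨ψ, hψ⟩ : ∃ ψ : c.B ⟶ C, Spec.map ψ = ιC ≫ pullback.fst c.e g :=
    ⟨Spec.preimage _, Spec.map_preimage _⟩
  have sqT : IsPullback (Spec.map (pushout.inl c.φ ψ)) (Spec.map (pushout.inr c.φ ψ))
      (Spec.map c.φ) (Spec.map ψ) := isPullback_SpecMap_pushout c.φ ψ
  rw [hψ] at sqT
  have sqZ := IsPullback.of_hasPullback (Spec.map c.φ) (pullback.fst c.e g)
  have sqN := IsPullback.of_right' sqT sqZ
  have hn_snd : sqZ.lift (Spec.map (pushout.inl c.φ ψ)) (Spec.map (pushout.inr c.φ ψ) ≫ ιC)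
      (by rw [sqT.w, Category.assoc]) ≫ pullback.snd (Spec.map c.φ) (pullback.fst c.e g) =
        Spec.map (pushout.inr c.φ ψ) ≫ ιC := sqZ.lift_snd _ _ _
  generalize sqZ.lift (Spec.map (pushout.inl c.φ ψ)) (Spec.map (pushout.inr c.φ ψ) ≫ ιC)
      (by rw [sqT.w, Category.assoc]) = n at sqN hn_snd
  haveI : IsOpenImmersion n :=
    MorphismProperty.of_isPullback (P := @IsOpenImmersion) sqN.flip hιC
  obtain ⟨d', hd'1, hd'2⟩ := Scheme.exists_preimage_of_isPullback sqN z cpt hcpt.symm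
  haveI := c.he
  refine ⟨C, pushout c.φ ψ, pushout.inr c.φ ψ, c.n, n ≫ m, ιC ≫ pullback.snd c.e g,
    inferInstance, ⟨d', ?_⟩, inferInstance, tower_pushout_inr p c.n c.φ ψ c.htow, ?_⟩
  · rw [Scheme.Hom.comp_apply]
    exact (congrArg m hd'1).trans hz1
  · rw [Category.assoc, hm_f', ← Category.assoc n, hn_snd, Category.assoc]

theorem isQuiet_baseChange {p : ℕ} {X Y X' Y' : Scheme.{u}}
    (f : Y ⟶ X) (g : X' ⟶ X) (f' : Y' ⟶ X') (g' : Y' ⟶ Y) (H : IsPullback g' f' f g)
    (hf : Quiet.IsQuiet p f) : Quiet.IsQuiet p f' := by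
  apply isQuiet_of_hasChart
  intro y'
  obtain ⟨c⟩ := (hasChart_of_isQuiet hf (g' y')).nonempty_chart
  exact hasChart_baseChange f g f' g' H y' c

end Groth.Agent.H8.QTower
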