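import Mathlib
import Groth.Prelude.Def_W4c2gaugesfzipsQuiet
import Groth.Prelude.Def_Frob
import Groth.Agent.Lib.Helper8.Quiet2.Chart

set_option autoImplicit false
open CategoryTheory AlgebraicGeometry

namespace Groth.Agent.H8.QTower

universe u

set_option maxHeartbeats 800000 in
theorem hasChart_comp (p : ℕ) [Fact p.Prime] {X Y Z : Scheme.{u}} [FrobSch.IsCharP X p]
    (f : Y ⟶ X) (g : Z ⟶ Y) (hf : ∀ y, HasChart p f y) (z : Z) (hg : HasChart p g z) :
    HasChart p (g ≫ f) z := by
  obtain ⟨B, D, φ, n, j, e, hj, ⟨d, hd⟩, he, htow, hcomm⟩ := hg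
  haveI := hj
  haveI := he
  obtain ⟨B₂, D₂, φ₂, m, j₂, e₂, hj₂, ⟨d₂, hd₂⟩, he₂, htow₂, hcomm₂⟩ := hf (e ((Spec.map φ) d))
  haveI := hj₂
  haveI := he₂
  have hbW : (Spec.map φ) d ∈ e ⁻¹ᵁ j₂.opensRange := ⟨d₂, hd₂⟩
  obtain ⟨_, ⟨_, ⟨h, rfl⟩, rfl⟩, hbh, hhle⟩ :=
    PrimeSpectrum.isBasis_basic_opens.exists_subset_of_mem_open hbW
      (e ⁻¹ᵁ j₂.opensRange).isOpen
  -- the localized chart
  have hιh : (Spec.map (CommRingCat.ofHom (algebraMap B (Localization.Away h)))).opensRange =
      PrimeSpectrum.basicOpen h := Scheme.Hom.opensRange_localizationAway h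
  have hrange : Set.range (Spec.map (CommRingCat.ofHom (algebraMap B (Localization.Away h))) ≫ e) ⊆
      Set.range j₂ := by
    rintro _ ⟨x, rfl⟩
    have hx : (Spec.map (CommRingCat.ofHom (algebraMap B (Localization.Away h)))) x ∈
        (Spec.map (CommRingCat.ofHom (algebraMap B (Localization.Away h)))).opensRange := ⟨x, rfl⟩
    rw [hιh] at hx
    have h5 := hhle hx
    rw [Scheme.Hom.comp_apply]
    exact h5
  have heh : IsOpenImmersion.lift j₂
      (Spec.map (CommRingCat.ofHom (algebraMap B (Localization.Away h))) ≫ e) hrange ≫ j₂ =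
      Spec.map (CommRingCat.ofHom (algebraMap B (Localization.Away h))) ≫ e :=
    IsOpenImmersion.lift_fac _ _ _
  obtain ⟨eh, heh'⟩ : ∃ eh : Spec (CommRingCat.of (Localization.Away h)) ⟶ Spec D₂,
      eh ≫ j₂ = Spec.map (CommRingCat.ofHom (algebraMap B (Localization.Away h))) ≫ e :=
    ⟨_, heh⟩
  haveI : Etale (eh ≫ j₂) := by rw [heh']; infer_instance
  haveI : Etale eh := Etale.of_comp eh j₂
  obtain ⟨θ, hθ⟩ : ∃ θ : D₂ ⟶ CommRingCat.of (Localization.Away h), Spec.map θ = eh :=
    ⟨Spec.preimage eh, Spec.map_preimage eh⟩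
  have hθet : θ.hom.Etale :=
    (HasRingHomProperty.Spec_iff (P := @Etale)).mp (by rw [hθ]; infer_instance)
  have htowh : Tower p n (Localization.Away h) (Localization.Away (φ.hom h))
      (IsLocalization.Away.map (Localization.Away h) (Localization.Away (φ.hom h)) φ.hom h) :=
    tower_away p n φ.hom htow h _ _
  have hsq : CommRingCat.ofHom (algebraMap B (Localization.Away h)) ≫
      CommRingCat.ofHom (IsLocalization.Away.map (Localization.Away h)
        (Localization.Away (φ.hom h)) φ.hom h) =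
      φ ≫ CommRingCat.ofHom (algebraMap D (Localization.Away (φ.hom h))) := by
    ext r
    simp [IsLocalization.Away.map]
  have hpB₂ : (p : B₂) = 0 := natCast_eq_zero_of_hom p e₂
  obtain ⟨B₄, _, α, β, k, hα, hβ, hαβ⟩ := exists_comp_chart p m n φ₂.hom htow₂ hpB₂ θ.hom hθet
    (IsLocalization.Away.map (Localization.Away h) (Localization.Away (φ.hom h)) φ.hom h) htowh
  have hring : CommRingCat.ofHom α ≫ CommRingCat.ofHom β =
      φ₂ ≫ θ ≫ CommRingCat.ofHom (IsLocalization.Away.map (Localization.Away h)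
        (Localization.Away (φ.hom h)) φ.hom h) := by
    ext x
    exact congrArg (fun f => f x) hαβ
  haveI : Etale (Spec.map (CommRingCat.ofHom α)) :=
    (HasRingHomProperty.Spec_iff (P := @Etale)).mpr hα
  refine ⟨CommRingCat.of B₄, CommRingCat.of (Localization.Away (φ.hom h)), CommRingCat.ofHom β, k,
    Spec.map (CommRingCat.ofHom (algebraMap D (Localization.Away (φ.hom h)))) ≫ j,
    Spec.map (CommRingCat.ofHom α) ≫ e₂, inferInstance, ?_, inferInstance, hβ, ?_⟩
  · have hd' : d ∈ (Spec.map (CommRingCat.ofHom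
        (algebraMap D (Localization.Away (φ.hom h))))).opensRange := by
      rw [Scheme.Hom.opensRange_localizationAway]
      exact hbh
    obtain ⟨d', hd''⟩ := hd'
    exact ⟨d', by rw [Scheme.Hom.comp_apply, hd'', hd]⟩
  · calc Spec.map (CommRingCat.ofHom β) ≫ Spec.map (CommRingCat.ofHom α) ≫ e₂
        = Spec.map (CommRingCat.ofHom α ≫ CommRingCat.ofHom β) ≫ e₂ := by
          rw [Spec.map_comp, Category.assoc]
      _ = Spec.map (CommRingCat.ofHom (IsLocalization.Away.map (Localization.Away h)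
            (Localization.Away (φ.hom h)) φ.hom h)) ≫ Spec.map θ ≫ Spec.map φ₂ ≫ e₂ := by
          rw [hring]
          simp only [Spec.map_comp, Category.assoc]
      _ = Spec.map (CommRingCat.ofHom (IsLocalization.Away.map (Localization.Away h)
            (Localization.Away (φ.hom h)) φ.hom h)) ≫ eh ≫ j₂ ≫ f := by
          rw [hθ, hcomm₂]
      _ = Spec.map (CommRingCat.ofHom (IsLocalization.Away.map (Localization.Away h)
            (Localization.Away (φ.hom h)) φ.hom h)) ≫
            Spec.map (CommRingCat.ofHom (algebraMap B (Localization.Away h))) ≫ e ≫ f := by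
          rw [← Category.assoc eh, heh', Category.assoc]
      _ = Spec.map (CommRingCat.ofHom (algebraMap D (Localization.Away (φ.hom h)))) ≫
            Spec.map φ ≫ e ≫ f := by
          rw [← Category.assoc, ← Spec.map_comp, hsq, Spec.map_comp, Category.assoc]
      _ = Spec.map (CommRingCat.ofHom (algebraMap D (Localization.Away (φ.hom h)))) ≫
            j ≫ g ≫ f := by
          rw [← Category.assoc (Spec.map φ), hcomm, Category.assoc]
      _ = (Spec.map (CommRingCat.ofHom (algebraMap D (Localization.Away (φ.hom h)))) ≫ j) ≫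
            g ≫ f := by
          rw [Category.assoc]

theorem isQuiet_comp (p : ℕ) [Fact p.Prime] {X Y Z : Scheme.{u}} [FrobSch.IsCharP X p]
    (f : Y ⟶ X) (g : Z ⟶ Y) (hf : Quiet.IsQuiet p f) (hg : Quiet.IsQuiet p g) :
    Quiet.IsQuiet p (g ≫ f) :=
  isQuiet_of_hasChart (fun z =>
    hasChart_comp p f g (hasChart_of_isQuiet hf) z (hasChart_of_isQuiet hg z))

end Groth.Agent.H8.QTower
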