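import Mathlib
import Groth.Agent.Lib.Helper8.Quiet2.Tower

set_option autoImplicit false

namespace Groth.Agent.H8.QTower

universe u

variable (p : ℕ) {A : Type u} [CommRing A] {ι : Type} [DecidableEq ι]

/-- the `A`-algebra endomorphism of `A[X_i]` raising the variables in `s` to the `p`-th power. -/
noncomputable def powSub (s : Finset ι) : MvPolynomial ι A →ₐ[A] MvPolynomial ι A :=
  MvPolynomial.aeval (fun i => if i ∈ s then (MvPolynomial.X i : MvPolynomial ι A) ^ p
    else MvPolynomial.X i)

theorem powSub_X (s : Finset ι) (i : ι) :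
    powSub p s (MvPolynomial.X i : MvPolynomial ι A) =
      if i ∈ s then (MvPolynomial.X i : MvPolynomial ι A) ^ p else MvPolynomial.X i := by
  unfold powSub
  rw [MvPolynomial.aeval_X]

theorem powSub_C (s : Finset ι) (a : A) :
    powSub p s (MvPolynomial.C a : MvPolynomial ι A) = MvPolynomial.C a := by
  unfold powSub
  rw [MvPolynomial.aeval_C, MvPolynomial.algebraMap_eq]

theorem tower_powSub_single (k : ι) :
    Tower p 1 (MvPolynomial ι A) (MvPolynomial ι A)
      ((powSub p ({k} : Finset ι) : MvPolynomial ι A →ₐ[A] MvPolynomial ι A) :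
        MvPolynomial ι A →+* MvPolynomial ι A) := by
  have hx : Polynomial.eval₂
      ((powSub p ({k} : Finset ι) : MvPolynomial ι A →ₐ[A] MvPolynomial ι A) :
        MvPolynomial ι A →+* MvPolynomial ι A) (MvPolynomial.X k)
      (Polynomial.X ^ p - Polynomial.C (MvPolynomial.X k) : Polynomial (MvPolynomial ι A)) = 0 := by
    rw [eval₂_root_poly]
    show (MvPolynomial.X k : MvPolynomial ι A) ^ p - powSub p {k} (MvPolynomial.X k) = 0
    rw [powSub_X, if_pos (Finset.mem_singleton_self k), sub_self]
  refine ⟨MvPolynomial.X k, MvPolynomial.X k, hx, ?_⟩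
  show Function.Bijective (AdjoinRoot.lift _ (MvPolynomial.X k) hx)
  let G : MvPolynomial ι A →+*
      AdjoinRoot (Polynomial.X ^ p - Polynomial.C (MvPolynomial.X k) :
        Polynomial (MvPolynomial ι A)) :=
    MvPolynomial.eval₂Hom ((AdjoinRoot.of _).comp MvPolynomial.C)
      (fun i => if i = k then AdjoinRoot.root _ else AdjoinRoot.of _ (MvPolynomial.X i))
  have hGC : ∀ a : A, G (MvPolynomial.C a) = AdjoinRoot.of _ (MvPolynomial.C a) := fun a =>
    MvPolynomial.eval₂Hom_C _ _ a
  have hGX : ∀ i : ι, G (MvPolynomial.X i) =
      if i = k then AdjoinRoot.root _ else AdjoinRoot.of _ (MvPolynomial.X i) := fun i =>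
    MvPolynomial.eval₂Hom_X' _ _ i
  have hLG : (AdjoinRoot.lift _ (MvPolynomial.X k) hx).comp G = RingHom.id _ := by
    apply MvPolynomial.ringHom_ext
    · intro a
      rw [RingHom.comp_apply, hGC, AdjoinRoot.lift_of, RingHom.id_apply]
      exact powSub_C p {k} a
    · intro i
      rw [RingHom.comp_apply, hGX, RingHom.id_apply]
      by_cases hik : i = k
      · rw [if_pos hik, AdjoinRoot.lift_root, hik]
      · rw [if_neg hik, AdjoinRoot.lift_of]
        show powSub p {k} (MvPolynomial.X i) = _
        rw [powSub_X, if_neg (by simpa using hik)]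
  have hGL : G.comp (AdjoinRoot.lift _ (MvPolynomial.X k) hx) = RingHom.id _ := by
    apply AdjoinRoot.ringHom_ext
    · apply MvPolynomial.ringHom_ext
      · intro a
        simp only [RingHom.comp_apply, RingHom.id_apply, AdjoinRoot.lift_of]
        show G (powSub p {k} (MvPolynomial.C a)) = _
        rw [powSub_C, hGC]
      · intro i
        simp only [RingHom.comp_apply, RingHom.id_apply, AdjoinRoot.lift_of]
        show G (powSub p {k} (MvPolynomial.X i)) = _
        rw [powSub_X]
        by_cases hik : i = k
        · rw [if_pos (by simpa using hik), map_pow, hGX, if_pos hik, root_pow_eq, hik]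
        · rw [if_neg (by simpa using hik), hGX, if_neg hik]
    · rw [RingHom.comp_apply, AdjoinRoot.lift_root, hGX, if_pos rfl, RingHom.id_apply]
  constructor
  · intro a b hab
    have := congrArg G hab
    have e1 := congrArg (fun m => m a) hGL
    have e2 := congrArg (fun m => m b) hGL
    simp only [RingHom.comp_apply, RingHom.id_apply] at e1 e2
    rw [← e1, ← e2]
    exact this
  · intro y
    refine ⟨G y, ?_⟩
    have e1 := congrArg (fun m => m y) hLG
    simpa only [RingHom.comp_apply, RingHom.id_apply] using e1

theorem tower_powSub (s : Finset ι) :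
    Tower p s.card (MvPolynomial ι A) (MvPolynomial ι A)
      ((powSub p s : MvPolynomial ι A →ₐ[A] MvPolynomial ι A) :
        MvPolynomial ι A →+* MvPolynomial ι A) := by
  induction s using Finset.induction_on with
  | empty =>
    show Function.Bijective _
    have h : (powSub p (∅ : Finset ι) : MvPolynomial ι A →ₐ[A] MvPolynomial ι A) =
        AlgHom.id A _ := by
      apply MvPolynomial.algHom_ext
      intro i
      rw [powSub_X, if_neg (Finset.notMem_empty i)]
      rfl
    rw [h]
    exact Function.bijective_id
  | insert k s hk ih =>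
    rw [Finset.card_insert_of_notMem hk]
    have hcomp : ((powSub p (insert k s) : MvPolynomial ι A →ₐ[A] MvPolynomial ι A) :
        MvPolynomial ι A →+* MvPolynomial ι A) =
        ((powSub p s : MvPolynomial ι A →ₐ[A] MvPolynomial ι A) :
          MvPolynomial ι A →+* MvPolynomial ι A).comp
        ((powSub p ({k} : Finset ι) : MvPolynomial ι A →ₐ[A] MvPolynomial ι A) :
          MvPolynomial ι A →+* MvPolynomial ι A) := by
      apply MvPolynomial.ringHom_ext
      · intro a
        show powSub p (insert k s) (MvPolynomial.C a) =
          powSub p s (powSub p {k} (MvPolynomial.C a))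
        rw [powSub_C, powSub_C, powSub_C]
      · intro i
        show powSub p (insert k s) (MvPolynomial.X i) =
          powSub p s (powSub p {k} (MvPolynomial.X i))
        rw [powSub_X, powSub_X]
        by_cases hik : i = k
        · rw [hik, if_pos (Finset.mem_insert_self _ _), if_pos (Finset.mem_singleton_self _),
            map_pow, powSub_X, if_neg hk]
        · rw [if_neg (by simpa using hik : i ∉ ({k} : Finset ι)), powSub_X]
          by_cases his : i ∈ s
          · rw [if_pos his, if_pos (Finset.mem_insert_of_mem his)]
          · rw [if_neg his, if_neg (by simp [hik, his])]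
    rw [hcomp]
    exact tower_comp p 1 _ _ _ (tower_powSub_single p k) s.card _ _ ih

end Groth.Agent.H8.QTower
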