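import Mathlib
import Groth.Prelude.Def_Frob
import Groth.Agent.Lib.Helper8.Quiet2.EtDesc
import Groth.Agent.Lib.Helper8.Quiet2.BaseChange
import Groth.Agent.Lib.Helper8.Quiet2.MvTower

set_option autoImplicit false
open CategoryTheory Limits

namespace Groth.Agent.H8.QTower

universe u

variable (p : ℕ) [hp : Fact p.Prime]

/-- the Frobenius endomorphism in `CommRingCat`. -/
noncomputable def frC (R : CommRingCat.{u}) (h : (p : R) = 0) : R ⟶ R :=
  CommRingCat.ofHom (FrobSch.powHom p R h)

theorem frC_apply (R : CommRingCat.{u}) (h : (p : R) = 0) (r : R) : (frC p R h).hom r = r ^ p :=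
  rfl

theorem frC_comp {R S : CommRingCat.{u}} (hR : (p : R) = 0) (hS : (p : S) = 0) (f : R ⟶ S) :
    frC p R hR ≫ f = f ≫ frC p S hS := by
  ext r
  show f.hom (r ^ p) = (f.hom r) ^ p
  rw [map_pow]

/-- base change of a tower along an arbitrary pushout square of commutative rings. -/
theorem tower_of_catPushout (n : ℕ) {B D C E : CommRingCat.{u}} {φ : B ⟶ D} {ψ : B ⟶ C}
    {inl : D ⟶ E} {inr : C ⟶ E} (H : IsPushout φ ψ inl inr) (h : Tower p n B D φ.hom) :
    Tower p n C E inr.hom := by
  have h0 := tower_pushout_inr p n φ ψ h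
  refine tower_transport' p n (pushout.inr φ ψ).hom inr.hom (RingHom.id _) H.isoPushout.inv.hom
    Function.bijective_id (ConcreteCategory.bijective_of_isIso H.isoPushout.inv) (fun c => ?_) h0
  have := congrArg (fun m => m.hom c) H.inr_isoPushout_inv
  exact this.symm

/-- the Frobenius square of an étale ring map is cocartesian. -/
theorem isPushout_frob_of_etale {P B : CommRingCat.{u}} (θ : P ⟶ B) (hθ : θ.hom.Etale)
    (hP : (p : P) = 0) (hB : (p : B) = 0) :
    IsPushout (frC p P hP) θ θ (frC p B hB) := by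
  have hQ0 : (p : (pushout (frC p P hP) θ : CommRingCat.{u})) = 0 := by
    have := congrArg (pushout.inl (frC p P hP) θ).hom hP
    simpa using this
  obtain ⟨desc, h_inl, h_inr⟩ : ∃ desc : pushout (frC p P hP) θ ⟶ B,
      pushout.inl (frC p P hP) θ ≫ desc = θ ∧ pushout.inr (frC p P hP) θ ≫ desc = frC p B hB :=
    ⟨pushout.desc θ (frC p B hB) (frC_comp p hP hB θ), pushout.inl_desc _ _ _,
      pushout.inr_desc _ _ _⟩
  have hinl_et : (pushout.inl (frC p P hP) θ).hom.Etale :=
    RingHom.Etale.isStableUnderBaseChange.pushout_inl RingHom.Etale.respectsIso _ _ hθ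
  have hdi : desc ≫ pushout.inr (frC p P hP) θ = frC p _ hQ0 := by
    apply pushout.hom_ext
    · rw [← Category.assoc, h_inl, ← pushout.condition, frC_comp p hP hQ0]
    · rw [← Category.assoc, h_inr, frC_comp p hB hQ0]
  have hbij : Function.Bijective desc.hom := by
    letI : Algebra P (pushout (frC p P hP) θ : CommRingCat.{u}) :=
      (pushout.inl (frC p P hP) θ).hom.toAlgebra
    letI : Algebra P B := θ.hom.toAlgebra
    letI : Algebra (pushout (frC p P hP) θ : CommRingCat.{u}) B := desc.hom.toAlgebra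
    haveI : IsScalarTower P (pushout (frC p P hP) θ : CommRingCat.{u}) B :=
      IsScalarTower.of_algebraMap_eq (fun r => by
        show θ.hom r = desc.hom ((pushout.inl (frC p P hP) θ).hom r)
        exact (congrArg (fun m => m.hom r) h_inl).symm)
    haveI : Algebra.Etale P (pushout (frC p P hP) θ : CommRingCat.{u}) := hinl_et.toAlgebra
    haveI : Algebra.Etale P B := hθ.toAlgebra
    haveI : Algebra.Etale (pushout (frC p P hP) θ : CommRingCat.{u}) B :=
      Algebra.Etale.of_restrictScalars P _ B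
    exact bijective_of_etale_of_frobInv p 1 hQ0 (pushout.inr (frC p P hP) θ).hom
      (fun c => by
        rw [pow_one]
        exact congrArg (fun m => m.hom c) hdi)
      (fun b => by
        rw [pow_one]
        exact congrArg (fun m => m.hom b) h_inr)
  haveI : IsIso desc := by
    have : desc = (RingEquiv.ofBijective desc.hom hbij).toCommRingCatIso.hom := rfl
    rw [this]
    infer_instance
  exact IsPushout.of_iso (IsPushout.of_hasPushout (frC p P hP) θ) (Iso.refl _) (Iso.refl _)
    (Iso.refl _) (asIso desc) (by simp) (by simp) (by simpa using h_inl) (by simpa using h_inr)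

/-- the relative Frobenius of an `A`-algebra `R` in `CommRingCat`. -/
noncomputable def relW {A R : CommRingCat.{u}} (hA : (p : A) = 0) (hR : (p : R) = 0) (φ : A ⟶ R) :
    pushout φ (frC p A hA) ⟶ R :=
  pushout.desc (frC p R hR) φ (frC_comp p hA hR φ).symm

theorem inl_relW {A R : CommRingCat.{u}} (hA : (p : A) = 0) (hR : (p : R) = 0) (φ : A ⟶ R) :
    pushout.inl φ (frC p A hA) ≫ relW p hA hR φ = frC p R hR := pushout.inl_desc _ _ _

theorem inr_relW {A R : CommRingCat.{u}} (hA : (p : A) = 0) (hR : (p : R) = 0) (φ : A ⟶ R) :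
    pushout.inr φ (frC p A hA) ≫ relW p hA hR φ = φ := pushout.inr_desc _ _ _

/-- the relative Frobenius of `B/A` is a base change of the relative Frobenius of `P/A` when
`B` is étale over `P`. -/
theorem tower_relW_of_etale (n : ℕ) {A P B : CommRingCat.{u}} (hA : (p : A) = 0)
    (hP : (p : P) = 0) (hB : (p : B) = 0) (φP : A ⟶ P) (θ : P ⟶ B) (hθ : θ.hom.Etale)
    (hPt : Tower p n (pushout φP (frC p A hA) : CommRingCat.{u}) P (relW p hA hP φP).hom) :
    Tower p n (pushout (φP ≫ θ) (frC p A hA) : CommRingCat.{u}) B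
      (relW p hA hB (φP ≫ θ)).hom := by
  obtain ⟨θ', hθ'l, hθ'r⟩ : ∃ θ' : pushout φP (frC p A hA) ⟶ pushout (φP ≫ θ) (frC p A hA),
      pushout.inl φP (frC p A hA) ≫ θ' = θ ≫ pushout.inl (φP ≫ θ) (frC p A hA) ∧
      pushout.inr φP (frC p A hA) ≫ θ' = pushout.inr (φP ≫ θ) (frC p A hA) :=
    ⟨pushout.desc (θ ≫ pushout.inl (φP ≫ θ) (frC p A hA)) (pushout.inr (φP ≫ θ) (frC p A hA))
      (by rw [← Category.assoc, pushout.condition]), pushout.inl_desc _ _ _,
      pushout.inr_desc _ _ _⟩
  -- the lower left square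
  have s1 : IsPushout (frC p A hA) (φP ≫ θ) (pushout.inr φP (frC p A hA) ≫ θ')
      (pushout.inl (φP ≫ θ) (frC p A hA)) := by
    rw [hθ'r]
    exact (IsPushout.of_hasPushout (φP ≫ θ) (frC p A hA)).flip
  have t1 : IsPushout (frC p A hA) φP (pushout.inr φP (frC p A hA))
      (pushout.inl φP (frC p A hA)) := (IsPushout.of_hasPushout φP (frC p A hA)).flip
  have sqL : IsPushout (pushout.inl φP (frC p A hA)) θ θ' (pushout.inl (φP ≫ θ) (frC p A hA)) :=
    IsPushout.of_top s1 hθ'l t1
  -- the big rectangle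
  have s2 : IsPushout (pushout.inl φP (frC p A hA) ≫ relW p hA hP φP) θ θ
      (pushout.inl (φP ≫ θ) (frC p A hA) ≫ relW p hA hB (φP ≫ θ)) := by
    rw [inl_relW, inl_relW]
    exact isPushout_frob_of_etale p θ hθ hP hB
  have hcomm : relW p hA hP φP ≫ θ = θ' ≫ relW p hA hB (φP ≫ θ) := by
    apply pushout.hom_ext
    · rw [← Category.assoc, inl_relW, ← Category.assoc, hθ'l, Category.assoc, inl_relW,
        frC_comp p hP hB]
    · rw [← Category.assoc, inr_relW, ← Category.assoc, hθ'r, inr_relW]
  have sqR : IsPushout (relW p hA hP φP) θ' θ (relW p hA hB (φP ≫ θ)) :=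
    IsPushout.of_left s2 hcomm sqL
  exact tower_of_catPushout p n sqR hPt

end Groth.Agent.H8.QTower
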