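import Mathlib
import Groth.Prelude.Def_W4c2gaugesfzipsQuiet
import Groth.Prelude.Def_Frob
import Groth.Agent.Lib.Helper8.Quiet2.EtDesc

set_option autoImplicit false
open CategoryTheory Polynomial

namespace Groth.Agent.H8.QTower

universe u

theorem adjoinRoot_map_surjective {R S : Type u} [CommRing R] [CommRing S] (κ : R →+* S)
    (hκ : Function.Surjective κ) (q : R[X]) (q' : S[X]) (h : q' ∣ q.map κ) :
    Function.Surjective (AdjoinRoot.map κ q q' h) := by
  have key : (AdjoinRoot.map κ q q' h).comp (AdjoinRoot.mk q) =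
      (AdjoinRoot.mk q').comp (Polynomial.mapRingHom κ) := by
    apply Polynomial.ringHom_ext
    · intro r
      simp only [RingHom.comp_apply, AdjoinRoot.mk_C, AdjoinRoot.map_of, Polynomial.coe_mapRingHom,
        Polynomial.map_C]
    · simp only [RingHom.comp_apply, AdjoinRoot.mk_X, AdjoinRoot.map_root, Polynomial.coe_mapRingHom,
        Polynomial.map_X]
  have hs : Function.Surjective ((AdjoinRoot.map κ q q' h).comp (AdjoinRoot.mk q)) := by
    rw [key]
    exact AdjoinRoot.mk_surjective.comp (Polynomial.map_surjective κ hκ)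
  intro z
  obtain ⟨w, hw⟩ := hs z
  exact ⟨AdjoinRoot.mk q w, hw⟩

/-- lifting a tower along a surjection, as a pushout. -/
theorem exists_tower_lift (p n : ℕ) : ∀ (Bt B₁ D₁ : Type u) [CommRing Bt] [CommRing B₁]
    [CommRing D₁] (κ : Bt →+* B₁) (_ : Function.Surjective κ) (φ₁ : B₁ →+* D₁),
    Tower p n B₁ D₁ φ₁ →
    ∃ (Dt : Type u) (_ : CommRing Dt) (φt : Bt →+* Dt) (κD : Dt →+* D₁), Tower p n Bt Dt φt ∧
      IsPushout (CommRingCat.ofHom κ) (CommRingCat.ofHom φt) (CommRingCat.ofHom φ₁)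
        (CommRingCat.ofHom κD) := by
  induction n with
  | zero =>
    intro Bt B₁ D₁ _ _ _ κ hκ φ₁ h
    refine ⟨Bt, inferInstance, RingHom.id Bt, φ₁.comp κ, Function.bijective_id, ?_⟩
    haveI : IsIso (CommRingCat.ofHom φ₁) := by
      have : CommRingCat.ofHom φ₁ = (RingEquiv.ofBijective φ₁ h).toCommRingCatIso.hom := rfl
      rw [this]; infer_instance
    haveI : IsIso (CommRingCat.ofHom (RingHom.id Bt)) := by
      have : CommRingCat.ofHom (RingHom.id Bt) = 𝟙 _ := rfl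
      rw [this]; infer_instance
    exact IsPushout.of_vert_isIso ⟨by ext x; rfl⟩
  | succ n ih =>
    rintro Bt B₁ D₁ _ _ _ κ hκ φ₁ ⟨a₁, x₁, hx₁, ht⟩
    obtain ⟨a, rfl⟩ := hκ a₁
    have hmap : (X ^ p - C a : Bt[X]).map κ = (X ^ p - C (κ a) : B₁[X]) := by
      rw [Polynomial.map_sub, Polynomial.map_pow, Polynomial.map_X, Polynomial.map_C]
    have hdvd : (X ^ p - C (κ a) : B₁[X]) ∣ (X ^ p - C a : Bt[X]).map κ := by rw [hmap]
    have hκ' := adjoinRoot_map_surjective κ hκ (X ^ p - C a : Bt[X]) (X ^ p - C (κ a) : B₁[X]) hdvd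
    obtain ⟨Dt, _, φt', κD, htow, hpo⟩ := ih _ _ D₁
      (AdjoinRoot.map κ (X ^ p - C a : Bt[X]) (X ^ p - C (κ a) : B₁[X]) hdvd) hκ'
      (AdjoinRoot.lift φ₁ x₁ hx₁) ht
    letI : Algebra Bt B₁ := κ.toAlgebra
    letI : Algebra (AdjoinRoot (X ^ p - C a : Bt[X])) (AdjoinRoot (X ^ p - C (κ a) : B₁[X])) :=
      (AdjoinRoot.map κ (X ^ p - C a : Bt[X]) (X ^ p - C (κ a) : B₁[X]) hdvd).toAlgebra
    haveI : IsScalarTower Bt (AdjoinRoot (X ^ p - C a : Bt[X]))
        (AdjoinRoot (X ^ p - C (κ a) : B₁[X])) :=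
      IsScalarTower.of_algebraMap_eq (fun r => by
        show algebraMap Bt (AdjoinRoot (X ^ p - C (κ a) : B₁[X])) r =
          AdjoinRoot.map κ _ _ hdvd (algebraMap Bt (AdjoinRoot (X ^ p - C a : Bt[X])) r)
        rw [AdjoinRoot.algebraMap_eq, AdjoinRoot.map_of, AdjoinRoot.algebraMap_eq']
        rfl)
    haveI hP : Algebra.IsPushout Bt B₁ (AdjoinRoot (X ^ p - C a : Bt[X]))
        (AdjoinRoot (X ^ p - C (κ a) : B₁[X])) :=
      isPushout_adjoinRoot (A := Bt) (A' := B₁) (X ^ p - C a : Bt[X]) (X ^ p - C (κ a) : B₁[X])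
        hmap (by
          show AdjoinRoot.map κ _ _ hdvd (AdjoinRoot.root _) = _
          rw [AdjoinRoot.map_root])
    have htop := CommRingCat.isPushout_of_isPushout Bt B₁ (AdjoinRoot (X ^ p - C a : Bt[X]))
      (AdjoinRoot (X ^ p - C (κ a) : B₁[X]))
    have hpaste := htop.paste_vert hpo
    have hxt : eval₂ (φt'.comp (AdjoinRoot.of (X ^ p - C a : Bt[X])))
        (φt' (AdjoinRoot.root (X ^ p - C a : Bt[X]))) (X ^ p - C a : Bt[X]) = 0 := by
      rw [← Polynomial.hom_eval₂, AdjoinRoot.eval₂_root, map_zero]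
    have hlift : AdjoinRoot.lift (φt'.comp (AdjoinRoot.of (X ^ p - C a : Bt[X])))
        (φt' (AdjoinRoot.root (X ^ p - C a : Bt[X]))) hxt = φt' := by
      apply AdjoinRoot.ringHom_ext
      · ext r
        simp only [RingHom.comp_apply, AdjoinRoot.lift_of]
      · simp only [AdjoinRoot.lift_root]
    refine ⟨Dt, inferInstance, φt'.comp (AdjoinRoot.of (X ^ p - C a : Bt[X])), κD,
      ⟨a, φt' (AdjoinRoot.root _), hxt, ?_⟩, ?_⟩
    · rw [hlift]; exact htow
    · have e1 : CommRingCat.ofHom φ₁ =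
          CommRingCat.ofHom (algebraMap B₁ (AdjoinRoot (X ^ p - C (κ a) : B₁[X]))) ≫
            CommRingCat.ofHom (AdjoinRoot.lift φ₁ x₁ hx₁) := by
        ext r
        show φ₁ r = AdjoinRoot.lift φ₁ x₁ hx₁ (algebraMap B₁ _ r)
        rw [AdjoinRoot.algebraMap_eq, AdjoinRoot.lift_of]
      rw [e1]
      exact hpaste

end Groth.Agent.H8.QTower
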