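import Mathlib
import Groth.Prelude.Def_W4c2gaugesfzipsQuiet
import Groth.Prelude.Def_Frob
import Groth.Agent.Lib.Helper8.Quiet2.Lift

set_option autoImplicit false
open CategoryTheory Polynomial
open scoped TensorProduct

namespace Groth.Agent.H8.QTower

universe u

theorem exists_one_tmul {R R₀ M : Type u} [CommRing R] [CommRing R₀] [Algebra R R₀]
    [AddCommGroup M] [Module R M] (hπ : Function.Surjective (algebraMap R R₀))
    (t : R₀ ⊗[R] M) : ∃ m : M, t = (1 : R₀) ⊗ₜ[R] m := by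
  induction t using TensorProduct.induction_on with
  | zero => exact ⟨0, by rw [TensorProduct.tmul_zero]⟩
  | tmul r₀ m =>
    obtain ⟨r, rfl⟩ := hπ r₀
    refine ⟨r • m, ?_⟩
    rw [Algebra.algebraMap_eq_smul_one, TensorProduct.smul_tmul]
  | add x y hx hy =>
    obtain ⟨m₁, rfl⟩ := hx
    obtain ⟨m₂, rfl⟩ := hy
    exact ⟨m₁ + m₂, by rw [TensorProduct.tmul_add]⟩

/-- lifting a standard étale algebra along a surjection of base rings, as a pushout. -/
theorem exists_stdEtale_lift {R R₀ B₁ : Type u} [CommRing R] [CommRing R₀] [CommRing B₁]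
    (π : R →+* R₀) (hπ : Function.Surjective π) [Algebra R₀ B₁]
    [Algebra.IsStandardEtale R₀ B₁] :
    ∃ (Bt : Type u) (_ : CommRing Bt) (α : R →+* Bt) (κ : Bt →+* B₁), α.Etale ∧
      Function.Surjective κ ∧
      IsPushout (CommRingCat.ofHom π) (CommRingCat.ofHom α)
        (CommRingCat.ofHom (algebraMap R₀ B₁)) (CommRingCat.ofHom κ) := by
  letI : Algebra R R₀ := π.toAlgebra
  let P₀ : StandardEtalePresentation R₀ B₁ :=
    Algebra.IsStandardEtale.nonempty_standardEtalePresentation.some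
  obtain ⟨f, hf_map, -, hf_monic⟩ := Polynomial.lifts_and_natDegree_eq_and_monic
    (Polynomial.mem_lifts_of_surjective hπ P₀.f) P₀.monic_f
  obtain ⟨gt, hg⟩ := Polynomial.map_surjective π hπ P₀.g
  let P : StandardEtalePair R := ⟨f, hf_monic, gt * derivative f, ⟨gt, 0, 1, by ring⟩⟩
  let P' : StandardEtalePresentation R P.Ring :=
    { P := P
      x := P.X
      hasMap := P.hasMap_X
      lift_bijective := by
        rw [P.lift_X_left]
        exact Function.bijective_id }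
  let Q : StandardEtalePresentation R₀ (R₀ ⊗[R] P.Ring) := P'.baseChange
  have hQf : Q.f = P₀.f := hf_map
  have hQg : Q.g = P₀.g * derivative P₀.f := by
    show (gt * derivative f).map π = _
    rw [Polynomial.map_mul, hg, ← Polynomial.derivative_map, hf_map]
  -- `Q`'s pair accepts `P₀.x`
  have h₁ : Q.P.HasMap P₀.x := by
    refine ⟨?_, ?_⟩
    · rw [hQf]; exact P₀.hasMap.1
    · rw [hQg, map_mul]
      exact P₀.hasMap.2.mul P₀.hasMap.isUnit_derivative_f
  -- `P₀`'s pair accepts `Q.x`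
  have h₀ : P₀.P.HasMap Q.x := by
    refine ⟨?_, ?_⟩
    · rw [← hQf]; exact Q.hasMap.1
    · have h2 := Q.hasMap.2
      rw [hQg, map_mul] at h2
      exact isUnit_of_mul_isUnit_left h2
  let F : R₀ ⊗[R] P.Ring →ₐ[R₀] B₁ := (Q.P.lift P₀.x h₁).comp Q.equivRing.toAlgHom
  let G : B₁ →ₐ[R₀] R₀ ⊗[R] P.Ring := (P₀.P.lift Q.x h₀).comp P₀.equivRing.toAlgHom
  have hF : F Q.x = P₀.x := by
    show Q.P.lift P₀.x h₁ (Q.equivRing Q.x) = _
    rw [Q.equivRing_x, StandardEtalePair.lift_X]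
  have hG : G P₀.x = Q.x := by
    show P₀.P.lift Q.x h₀ (P₀.equivRing P₀.x) = _
    rw [P₀.equivRing_x, StandardEtalePair.lift_X]
  have hFG : F.comp G = AlgHom.id R₀ B₁ := P₀.hom_ext (by
    show F (G P₀.x) = P₀.x
    rw [hG, hF])
  have hGF : G.comp F = AlgHom.id R₀ (R₀ ⊗[R] P.Ring) := Q.hom_ext (by
    show G (F Q.x) = Q.x
    rw [hF, hG])
  let Φ : R₀ ⊗[R] P.Ring ≃ₐ[R₀] B₁ := AlgEquiv.ofAlgHom F G hFG hGF
  refine ⟨P.Ring, inferInstance, algebraMap R P.Ring,
    (F : R₀ ⊗[R] P.Ring →+* B₁).comp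
      (Algebra.TensorProduct.includeRight (R := R) (A := R₀) (B := P.Ring)).toRingHom,
    RingHom.etale_algebraMap.mpr inferInstance, ?_, ?_⟩
  · intro y
    obtain ⟨t, rfl⟩ := Φ.surjective y
    obtain ⟨m, rfl⟩ := exists_one_tmul (R := R) (R₀ := R₀) (M := P.Ring) hπ t
    exact ⟨m, rfl⟩
  · refine (CommRingCat.isPushout_tensorProduct R R₀ P.Ring).of_iso (Iso.refl _) (Iso.refl _)
      (Iso.refl _) Φ.toRingEquiv.toCommRingCatIso ?_ ?_ ?_ ?_
    · simp
    · simp
    · ext r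
      show Φ (r ⊗ₜ[R] (1 : P.Ring)) = algebraMap R₀ B₁ r
      have := Φ.commutes r
      rw [Algebra.TensorProduct.algebraMap_apply] at this
      exact this
    · ext b
      rfl

end Groth.Agent.H8.QTower
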