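import Mathlib
import Groth.Prelude.Def_W4c2gaugesfzipsQuiet
import Groth.Prelude.Def_Frob
import Groth.Agent.Lib.Helper8.Quiet2.Chart2
import Groth.Agent.Lib.Helper8.Quiet2.Lift
import Groth.Agent.Lib.Helper8.Quiet2.StdLift

set_option autoImplicit false
open CategoryTheory AlgebraicGeometry

namespace Groth.Agent.H8.QTower

universe u

theorem isPullback_fromSpec_preimage {T U : Scheme.{u}} (i : U ⟶ T) [IsClosedImmersion i]
    (W : T.Opens) (hW : IsAffineOpen W) :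
    IsPullback (Spec.map (i.app W)) (hW.preimage i).fromSpec hW.fromSpec i := by
  refine IsOpenImmersion.isPullback _ _ _ _ ?_ ?_
  · rw [Scheme.Hom.app_eq_appLE]
    exact (IsAffineOpen.SpecMap_appLE_fromSpec i hW (hW.preimage i) le_rfl).symm
  · rw [IsAffineOpen.opensRange_fromSpec, IsAffineOpen.opensRange_fromSpec]

theorem exists_lift_core (p n : ℕ) {T U : Scheme.{u}} (i : U ⟶ T) [IsClosedImmersion i]
    (W : T.Opens) (hW : IsAffineOpen W)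
    (B D : Type u) [CommRing B] [CommRing D] (φ : B →+* D) (htow : Tower p n B D φ)
    [Algebra Γ(U, i ⁻¹ᵁ W) B] [Algebra.IsStandardEtale Γ(U, i ⁻¹ᵁ W) B] :
    ∃ (Bt Dt : Type u) (_ : CommRing Bt) (_ : CommRing Dt) (α : Γ(T, W) →+* Bt) (φt : Bt →+* Dt)
      (κD : Dt →+* D), α.Etale ∧ Tower p n Bt Dt φt ∧
      IsPullback (Spec.map (CommRingCat.ofHom κD))
        (Spec.map (CommRingCat.ofHom (algebraMap Γ(U, i ⁻¹ᵁ W) B) ≫ CommRingCat.ofHom φ) ≫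
          (hW.preimage i).fromSpec)
        (Spec.map (CommRingCat.ofHom α ≫ CommRingCat.ofHom φt) ≫ hW.fromSpec) i := by
  have hπ : Function.Surjective (i.app W).hom := Scheme.Hom.app_surjective i W hW
  obtain ⟨Bt, _, α, κ, hα, hκ, hpo1⟩ := exists_stdEtale_lift (i.app W).hom hπ (B₁ := B)
  obtain ⟨Dt, _, φt, κD, htt, hpo2⟩ := exists_tower_lift p n Bt B D κ hκ φ htow
  refine ⟨Bt, Dt, inferInstance, inferInstance, α, φt, κD, hα, htt, ?_⟩
  have hpo := hpo1.paste_vert hpo2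
  have L := isPullback_SpecMap_of_isPushout _ _ _ _ hpo
  have Rt := isPullback_fromSpec_preimage i W hW
  exact L.flip.paste_vert Rt

theorem exists_isQuiet_lift (p : ℕ) {T U U' : Scheme.{u}} (i : U ⟶ T) [IsClosedImmersion i]
    (f' : U' ⟶ U) (hf' : Quiet.IsQuiet p f') (u : U') :
    ∃ (V : U'.Opens) (T' : Scheme.{u}) (q : T' ⟶ T) (j : (V : Scheme.{u}) ⟶ T'),
      u ∈ V ∧ Quiet.IsQuiet p q ∧ IsPullback j (V.ι ≫ f') q i := by
  obtain ⟨c₀⟩ := (hasChart_of_isQuiet hf' u).nonempty_chart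
  obtain ⟨W, hW, hxW, -⟩ := exists_isAffineOpen_mem_and_subset (x := i (f' u)) (U := ⊤) trivial
  have hU₀ : IsAffineOpen (i ⁻¹ᵁ W) := hW.preimage i
  obtain ⟨h, hh, hrange⟩ := c₀.exists_shrink_le (i ⁻¹ᵁ W) hxW
  obtain ⟨c₁, hc₁⟩ : ∃ c₁ : Chart p f' u, Set.range c₁.e ⊆ ((i ⁻¹ᵁ W : U.Opens) : Set U) :=
    ⟨c₀.shrink h hh, hrange⟩
  have H' : Set.range c₁.e ⊆ Set.range hU₀.fromSpec := by
    rw [hU₀.range_fromSpec]; exact hc₁
  haveI := c₁.he
  have hfac : IsOpenImmersion.lift hU₀.fromSpec c₁.e H' ≫ hU₀.fromSpec = c₁.e :=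
    IsOpenImmersion.lift_fac _ _ _
  haveI : Etale (IsOpenImmersion.lift hU₀.fromSpec c₁.e H' ≫ hU₀.fromSpec) := by
    rw [hfac]; infer_instance
  have hlet : Etale (IsOpenImmersion.lift hU₀.fromSpec c₁.e H') := Etale.of_comp _ hU₀.fromSpec
  obtain ⟨θ₁, hθ₁⟩ : ∃ θ₁ : Γ(U, i ⁻¹ᵁ W) ⟶ c₁.B,
      Spec.map θ₁ = IsOpenImmersion.lift hU₀.fromSpec c₁.e H' :=
    ⟨Spec.preimage _, Spec.map_preimage _⟩
  have hθ₁e : Spec.map θ₁ ≫ hU₀.fromSpec = c₁.e := by rw [hθ₁, hfac]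
  have hθ₁et : θ₁.hom.Etale := by
    rw [← hθ₁] at hlet
    exact (HasRingHomProperty.Spec_iff (P := @Etale)).mp hlet
  letI : Algebra Γ(U, i ⁻¹ᵁ W) c₁.B := θ₁.hom.toAlgebra
  haveI : Algebra.Etale Γ(U, i ⁻¹ᵁ W) c₁.B := hθ₁et
  haveI hQ : (c₁.b : PrimeSpectrum c₁.B).asIdeal.IsPrime := (c₁.b : PrimeSpectrum c₁.B).isPrime
  haveI : Algebra.IsEtaleAt Γ(U, i ⁻¹ᵁ W) (c₁.b : PrimeSpectrum c₁.B).asIdeal := by
    have h1 : Algebra.etaleLocus Γ(U, i ⁻¹ᵁ W) c₁.B = Set.univ :=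
      Algebra.etaleLocus_eq_univ_iff.mpr inferInstance
    have h2 : (c₁.b : PrimeSpectrum c₁.B) ∈ Algebra.etaleLocus Γ(U, i ⁻¹ᵁ W) c₁.B := by
      rw [h1]; trivial
    exact h2
  obtain ⟨g, hgQ, hstd⟩ := Algebra.IsEtaleAt.exists_isStandardEtale (R := Γ(U, i ⁻¹ᵁ W))
    (c₁.b : PrimeSpectrum c₁.B).asIdeal
  have hg : c₁.b ∈ PrimeSpectrum.basicOpen g := hgQ
  haveI := hstd
  obtain ⟨Bt, Dt, _, _, α, φt, κD, hα, htt, hpb⟩ := exists_lift_core p c₁.n i W hW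
    (Localization.Away g) (Localization.Away (c₁.φ.hom g)) (c₁.shrink g hg).φ.hom
    (c₁.shrink g hg).htow
  have hcomp : θ₁ ≫ CommRingCat.ofHom (algebraMap c₁.B (Localization.Away g)) =
      CommRingCat.ofHom (algebraMap Γ(U, i ⁻¹ᵁ W) (Localization.Away g)) := by
    ext r
    exact (IsScalarTower.algebraMap_apply Γ(U, i ⁻¹ᵁ W) c₁.B (Localization.Away g) r).symm
  have hc₂e : (c₁.shrink g hg).e =
      Spec.map (CommRingCat.ofHom (algebraMap Γ(U, i ⁻¹ᵁ W) (Localization.Away g))) ≫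
        hU₀.fromSpec := by
    rw [← hcomp, Spec.map_comp, Category.assoc, hθ₁e]
    rfl
  have hpb' : IsPullback (Spec.map (CommRingCat.ofHom κD))
      (Spec.map (c₁.shrink g hg).φ ≫ (c₁.shrink g hg).e)
      (Spec.map (CommRingCat.ofHom α ≫ CommRingCat.ofHom φt) ≫ hW.fromSpec) i := by
    rw [Spec.map_comp, Category.assoc] at hpb
    rw [hc₂e]
    exact hpb
  refine ⟨(c₁.shrink g hg).j.opensRange, Spec (CommRingCat.of Dt),
    Spec.map (CommRingCat.ofHom α ≫ CommRingCat.ofHom φt) ≫ hW.fromSpec,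
    (c₁.shrink g hg).j.isoOpensRange.inv ≫ Spec.map (CommRingCat.ofHom κD),
    ⟨(c₁.shrink g hg).d, (c₁.shrink g hg).hd⟩, ?_, ?_⟩
  · apply isQuiet_of_hasChart
    intro y
    refine ⟨CommRingCat.of Bt, CommRingCat.of Dt, CommRingCat.ofHom φt, c₁.n, 𝟙 _,
      Spec.map (CommRingCat.ofHom α) ≫ hW.fromSpec, inferInstance, ⟨y, rfl⟩, ?_, htt, ?_⟩
    · haveI : Etale (Spec.map (CommRingCat.ofHom α)) :=
        (HasRingHomProperty.Spec_iff (P := @Etale)).mpr hα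
      infer_instance
    · rw [Category.id_comp, Spec.map_comp, Category.assoc]
  · exact (c₁.shrink g hg).isPullback_opensRange _ i _ hpb'

end Groth.Agent.H8.QTower
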