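import Mathlib
import Groth.Prelude
import Groth.Agent.Lib.Helper8.Quiet2.Chart
import Groth.Agent.Lib.Helper8.Synt.Kos1
import Groth.Agent.Lib.Helper8.Synt.Main9287
import Groth.Agent.Lib.Helper8.SyntSrc.Mor
import Groth.Agent.Lib.Helper8.AlgLCI.Basic
import Groth.Agent.Lib.Helper8.LCIHom.Ring
import Groth.Agent.S15821

set_option autoImplicit false
set_option linter.style.haveILetI false
open CategoryTheory AlgebraicGeometry Polynomial

namespace Groth.Agent.H8.QTower

open Groth.Agent.H8.SyntLocal Groth.Agent.H8.SyntSrc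

universe u

theorem isSyntomicHom_comp {A B E : Type u} [CommRing A] [CommRing B] [CommRing E]
    (f : A →+* B) (g : B →+* E) (hf : IsSyntomicHom f) (hg : IsSyntomicHom g) :
    IsSyntomicHom (g.comp f) := by
  letI : Algebra A B := f.toAlgebra
  letI : Algebra B E := g.toAlgebra
  letI : Algebra A E := (g.comp f).toAlgebra
  haveI : IsScalarTower A B E := IsScalarTower.of_algebraMap_eq' rfl
  have hf' : Synt.IsSyntomic A B := hf
  have hg' : Synt.IsSyntomic B E := hg
  rw [Groth.Agent.H8.Synt.isSyntomic_iff] at hf' hg'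
  haveI := hf'.1
  haveI := hg'.1
  show Synt.IsSyntomic A E
  rw [Groth.Agent.H8.Synt.isSyntomic_iff]
  exact ⟨Module.Flat.trans A B E, Groth.Agent.H8.LCIHom.isLCI_comp A B E hf'.2 hg'.2⟩

theorem isSyntomicHom_of_bijective {A B : Type u} [CommRing A] [CommRing B] (f : A →+* B)
    (hf : Function.Bijective f) : IsSyntomicHom f := by
  have h := IsSyntomicHom.respectsIso.1 (RingHom.id A) (RingEquiv.ofBijective f hf)
    (isSyntomicHom_containsIdentities A)
  exact h

theorem isSyntomicHom_rootRing (p : ℕ) (hp : p ≠ 0) {A : Type u} [CommRing A] (a : A) :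
    IsSyntomicHom (AdjoinRoot.of (X ^ p - C a : A[X])) := by
  have hmonic : (X ^ p - C a : A[X]).Monic := monic_X_pow_sub_C a hp
  have hwr : RingTheory.Sequence.IsWeaklyRegular A[X] [(X ^ p - C a : A[X])] := by
    rw [RingTheory.Sequence.isWeaklyRegular_cons_iff]
    exact ⟨hmonic.isRegular.left.isSMulRegular, RingTheory.Sequence.IsWeaklyRegular.nil _ _⟩
  have hkos := (Groth.Agent.S15821.result A[X] _ hwr).1
  have hflat : ((AdjoinRoot.mk (X ^ p - C a : A[X])).comp (C : A →+* A[X])).Flat := by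
    have h1 : Module.Flat A (AdjoinRoot (X ^ p - C a : A[X])) := by
      haveI : Module.Free A (AdjoinRoot (X ^ p - C a : A[X])) :=
        Module.Free.of_basis (AdjoinRoot.powerBasis' hmonic).basis
      infer_instance
    have h2 := RingHom.flat_algebraMap_iff.mpr h1
    rw [AdjoinRoot.algebraMap_eq] at h2
    exact h2
  have hsm : (C : A →+* A[X]).Smooth := by
    have : Algebra.Smooth A A[X] :=
      { formallySmooth := inferInstance, finitePresentation := inferInstance }
    have h2 := RingHom.smooth_algebraMap.mpr this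
    rw [Polynomial.algebraMap_eq] at h2
    exact h2
  exact isSyntomicHom_comp_of_smooth_of_koszul (C : A →+* A[X])
    (AdjoinRoot.mk (X ^ p - C a : A[X])) hsm hflat AdjoinRoot.mk_surjective
    [(X ^ p - C a : A[X])] hkos (by
      have h1 : RingHom.ker (AdjoinRoot.mk (X ^ p - C a : A[X])) =
          Ideal.span {(X ^ p - C a : A[X])} := Ideal.mk_ker
      rw [h1]
      congr 1
      ext x
      simp)

theorem isSyntomicHom_of_tower (p : ℕ) (hp : p ≠ 0) (n : ℕ) :
    ∀ (A B : Type u) [CommRing A] [CommRing B] (φ : A →+* B), Tower p n A B φ →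
      IsSyntomicHom φ := by
  induction n with
  | zero =>
    intro A B _ _ φ hφ
    exact isSyntomicHom_of_bijective φ hφ
  | succ n ih =>
    rintro A B _ _ φ ⟨a, x, hx, ht⟩
    have h1 := ih _ B (AdjoinRoot.lift φ x hx) ht
    have h2 := isSyntomicHom_comp _ _ (isSyntomicHom_rootRing p hp a) h1
    rw [AdjoinRoot.lift_comp_of] at h2
    exact h2

theorem isSyntomicMor_of_isQuiet (p : ℕ) [hp : Fact p.Prime] {X Y : Scheme.{u}} (f : Y ⟶ X)
    (hf : Quiet.IsQuiet p f) : Synt.IsSyntomicMor f := by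
  intro y
  obtain ⟨B, D, φ, n, j, e, hj, ⟨d, hd⟩, he, htow, hcomm⟩ := hasChart_of_isQuiet hf y
  haveI := hj
  haveI := he
  have h1 : SyntomicP (Spec.map φ) :=
    (HasRingHomProperty.Spec_iff (P := SyntomicP)).mpr
      (isSyntomicHom_of_tower p hp.out.ne_zero n _ _ φ.hom htow)
  have h2 : SyntomicP e := Groth.Agent.H8.AlgLCI.syntomicP_of_etale e
  have h3 : SyntomicP (j ≫ f) := by
    rw [← hcomm]
    exact MorphismProperty.comp_mem _ _ _ h1 h2
  refine isSyntomicAt_of_open f j.opensRange ⟨d, hd⟩ ?_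
  have h4 : j.opensRange.ι ≫ f = j.isoOpensRange.inv ≫ j ≫ f := by
    rw [← Category.assoc, Scheme.Hom.isoOpensRange_inv_comp]
  rw [h4]
  exact (MorphismProperty.cancel_left_of_respectsIso SyntomicP _ _).mpr h3

end Groth.Agent.H8.QTower
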