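import Mathlib
import Groth.Prelude.Def_W4c2gaugesfzipsQuiet
import Groth.Prelude.Def_Frob
import Groth.Agent.Lib.Helper8.Quiet2.FrobSq
import Groth.Agent.Lib.Helper8.Quiet2.Chart
import Groth.Agent.Lib.Helper8.Quiet2.QSynt

set_option autoImplicit false
open CategoryTheory Limits AlgebraicGeometry

namespace Groth.Agent.H8.QTower

universe u

variable (p : ℕ) [hp : Fact p.Prime]

/-- `A` regarded as an algebra over itself via the Frobenius (type synonym). -/
def FrobTw (A : Type u) : Type u := A

instance (A : Type u) [CommRing A] : CommRing (FrobTw A) := inferInstanceAs (CommRing A)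

attribute [local instance] MvPolynomial.algebraMvPolynomial in
theorem isPushout_mvPolynomial_frob (A : CommRingCat.{u}) (hA : (p : A) = 0) (σ : Type) :
    IsPushout (CommRingCat.ofHom (MvPolynomial.C : A →+* MvPolynomial σ A)) (frC p A hA)
      (CommRingCat.ofHom (MvPolynomial.map (σ := σ) (FrobSch.powHom p A hA)))
      (CommRingCat.ofHom (MvPolynomial.C : A →+* MvPolynomial σ A)) := by
  letI : Algebra A (FrobTw A) := (FrobSch.powHom p A hA).toAlgebra
  have h := CommRingCat.isPushout_of_isPushout A (FrobTw A) (MvPolynomial σ A)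
    (MvPolynomial σ (FrobTw A))
  exact h.flip

theorem tower_relW_mvPolynomial (A : CommRingCat.{u}) (hA : (p : A) = 0) (σ : Type) [Fintype σ]
    [DecidableEq σ] (hP : (p : MvPolynomial σ A) = 0) :
    Tower p (Fintype.card σ)
      (pushout (CommRingCat.ofHom (MvPolynomial.C : A →+* MvPolynomial σ A)) (frC p A hA) :
        CommRingCat.{u})
      (CommRingCat.of (MvPolynomial σ A))
      (relW p hA hP (CommRingCat.ofHom (MvPolynomial.C : A →+* MvPolynomial σ A))).hom := by
  have H := isPushout_mvPolynomial_frob p A hA σ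
  have hE := tower_powSub p (A := A) (Finset.univ : Finset σ)
  rw [Finset.card_univ] at hE
  have hE1 : CommRingCat.ofHom (MvPolynomial.map (σ := σ) (FrobSch.powHom p A hA)) ≫
      CommRingCat.ofHom ((powSub p (Finset.univ : Finset σ) :
        MvPolynomial σ A →ₐ[A] MvPolynomial σ A) : MvPolynomial σ A →+* MvPolynomial σ A) =
      frC p (CommRingCat.of (MvPolynomial σ A)) hP := by
    refine CommRingCat.hom_ext ?_
    apply MvPolynomial.ringHom_ext
    · intro a
      show powSub p Finset.univ (MvPolynomial.map (FrobSch.powHom p A hA) (MvPolynomial.C a)) =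
        (MvPolynomial.C a : MvPolynomial σ A) ^ p
      rw [MvPolynomial.map_C, powSub_C, FrobSch.powHom_apply, map_pow]
    · intro i
      show powSub p Finset.univ (MvPolynomial.map (FrobSch.powHom p A hA) (MvPolynomial.X i)) =
        (MvPolynomial.X i : MvPolynomial σ A) ^ p
      rw [MvPolynomial.map_X, powSub_X, if_pos (Finset.mem_univ i)]
  have hE2 : CommRingCat.ofHom (MvPolynomial.C : A →+* MvPolynomial σ A) ≫
      CommRingCat.ofHom ((powSub p (Finset.univ : Finset σ) :
        MvPolynomial σ A →ₐ[A] MvPolynomial σ A) : MvPolynomial σ A →+* MvPolynomial σ A) =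
      CommRingCat.ofHom (MvPolynomial.C : A →+* MvPolynomial σ A) := by
    refine CommRingCat.hom_ext (RingHom.ext fun a => ?_)
    show powSub p Finset.univ (MvPolynomial.C a) = (MvPolynomial.C a : MvPolynomial σ A)
    exact powSub_C p _ a
  have hcmp : H.isoPushout.hom ≫
      relW p hA hP (CommRingCat.ofHom (MvPolynomial.C : A →+* MvPolynomial σ A)) =
      CommRingCat.ofHom ((powSub p (Finset.univ : Finset σ) :
        MvPolynomial σ A →ₐ[A] MvPolynomial σ A) : MvPolynomial σ A →+* MvPolynomial σ A) := by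
    apply H.hom_ext
    · calc _ = (CommRingCat.ofHom (MvPolynomial.map (σ := σ) (FrobSch.powHom p A hA)) ≫
            H.isoPushout.hom) ≫ relW p hA hP (CommRingCat.ofHom MvPolynomial.C) :=
            (Category.assoc _ _ _).symm
        _ = pushout.inl _ _ ≫ relW p hA hP (CommRingCat.ofHom MvPolynomial.C) := by
            rw [H.inl_isoPushout_hom]
        _ = frC p (CommRingCat.of (MvPolynomial σ A)) hP := inl_relW p hA hP _
        _ = _ := hE1.symm
    · calc _ = (CommRingCat.ofHom (MvPolynomial.C : A →+* MvPolynomial σ A) ≫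
            H.isoPushout.hom) ≫ relW p hA hP (CommRingCat.ofHom MvPolynomial.C) :=
            (Category.assoc _ _ _).symm
        _ = pushout.inr _ _ ≫ relW p hA hP (CommRingCat.ofHom MvPolynomial.C) := by
            rw [H.inr_isoPushout_hom]
        _ = CommRingCat.ofHom (MvPolynomial.C : A →+* MvPolynomial σ A) := inr_relW p hA hP _
        _ = _ := hE2.symm
  refine tower_transport' p _ _ _ H.isoPushout.hom.hom (RingHom.id _)
    (ConcreteCategory.bijective_of_isIso H.isoPushout.hom) Function.bijective_id (fun a => ?_) hE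
  exact congrArg (fun m => m.hom a) hcmp

theorem tower_relW_of_standardSmooth (n : ℕ) {A B : CommRingCat.{u}} (hA : (p : A) = 0)
    (hB : (p : B) = 0) (φ : A ⟶ B) (g : MvPolynomial (Fin n) A →+* B)
    (hgC : g.comp MvPolynomial.C = φ.hom) (hg : g.Etale) :
    Tower p n (pushout φ (frC p A hA) : CommRingCat.{u}) B (relW p hA hB φ).hom := by
  have hP : (p : MvPolynomial (Fin n) A) = 0 := by
    have := congrArg (MvPolynomial.C (σ := Fin n)) hA
    simpa using this
  obtain rfl : φ = CommRingCat.ofHom (MvPolynomial.C : A →+* MvPolynomial (Fin n) A) ≫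
      CommRingCat.ofHom g := by
    ext a
    exact (congrArg (fun m => m a) hgC).symm
  have h3 := tower_relW_mvPolynomial p A hA (Fin n) hP
  rw [Fintype.card_fin] at h3
  exact tower_relW_of_etale p n hA hP hB _ (CommRingCat.ofHom g) hg h3

/-- the absolute Frobenius of an affine scheme. -/
theorem frob_Spec (R : CommRingCat.{u}) [FrobSch.IsCharP (Spec R) p] (h : (p : R) = 0) :
    FrobSch.frob (Spec R) p = Spec.map (frC p R h) := by
  apply ext_of_isAffine
  rw [← cancel_mono (Scheme.ΓSpecIso R).hom, Scheme.ΓSpecIso_naturality]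
  ext s
  show (Scheme.ΓSpecIso R).hom.hom ((FrobSch.frob (Spec R) p).appTop.hom s) =
    ((Scheme.ΓSpecIso R).hom.hom s) ^ p
  have : (FrobSch.frob (Spec R) p).appTop.hom s = s ^ p := rfl
  rw [this, map_pow]

theorem frob_fromSpec {X : Scheme.{u}} [FrobSch.IsCharP X p] {V : X.Opens} (hV : IsAffineOpen V)
    (h : (p : Γ(X, V)) = 0) :
    Spec.map (frC p Γ(X, V) h) ≫ hV.fromSpec = hV.fromSpec ≫ FrobSch.frob X p := by
  haveI : FrobSch.IsCharP (Spec Γ(X, V)) p := FrobSch.IsCharP.of_hom hV.fromSpec p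
  rw [← frob_Spec p Γ(X, V) h]
  exact FrobSch.frob_comp p hV.fromSpec

theorem hasChart_relFrob {X S : Scheme.{u}} (f : X ⟶ S) [FrobSch.IsCharP S p] (x : X)
    (U : S.Opens) (hU : IsAffineOpen U) (V : X.Opens) (hV : IsAffineOpen V) (hx : x ∈ V)
    (e : V ≤ f ⁻¹ᵁ U) (n : ℕ) (hA : (p : Γ(S, U)) = 0) (hB : (p : Γ(X, V)) = 0)
    (ht : Tower p n (pushout (f.appLE U V e) (frC p Γ(S, U) hA) : CommRingCat.{u}) Γ(X, V)
      (relW p hA hB (f.appLE U V e)).hom) :
    HasChart p (FrobSch.relFrob f p) x := by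
  haveI : FrobSch.IsCharP X p := FrobSch.IsCharP.of_hom f p
  have e₁ : Spec.map (f.appLE U V e) ≫ hU.fromSpec = hV.fromSpec ≫ f :=
    IsAffineOpen.SpecMap_appLE_fromSpec f hU hV e
  have e₂ : Spec.map (frC p Γ(S, U) hA) ≫ hU.fromSpec = hU.fromSpec ≫ FrobSch.frob S p :=
    frob_fromSpec p hU hA
  have sqT : IsPullback (Spec.map (pushout.inl (f.appLE U V e) (frC p Γ(S, U) hA)))
      (Spec.map (pushout.inr (f.appLE U V e) (frC p Γ(S, U) hA)))
      (Spec.map (f.appLE U V e)) (Spec.map (frC p Γ(S, U) hA)) := isPullback_SpecMap_pushout _ _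
  obtain ⟨ec, hec_oi, hec_fst, hec_snd⟩ : ∃ ec : Spec (pushout (f.appLE U V e)
      (frC p Γ(S, U) hA)) ⟶ FrobSch.frobTwist f p, IsOpenImmersion ec ∧
      ec ≫ pullback.fst f (FrobSch.frob S p) =
        Spec.map (pushout.inl (f.appLE U V e) (frC p Γ(S, U) hA)) ≫ hV.fromSpec ∧
      ec ≫ pullback.snd f (FrobSch.frob S p) =
        Spec.map (pushout.inr (f.appLE U V e) (frC p Γ(S, U) hA)) ≫ hU.fromSpec := by
    refine ⟨sqT.isoPullback.hom ≫ pullback.map (Spec.map (f.appLE U V e))
      (Spec.map (frC p Γ(S, U) hA)) f (FrobSch.frob S p) hV.fromSpec hU.fromSpec hU.fromSpec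
      e₁ e₂, inferInstance, ?_, ?_⟩
    · rw [Category.assoc, pullback.lift_fst, ← Category.assoc, IsPullback.isoPullback_hom_fst]
    · rw [Category.assoc, pullback.lift_snd, ← Category.assoc, IsPullback.isoPullback_hom_snd]
  haveI := hec_oi
  refine ⟨pushout (f.appLE U V e) (frC p Γ(S, U) hA), Γ(X, V), relW p hA hB (f.appLE U V e), n,
    hV.fromSpec, ec, inferInstance, ?_, inferInstance, ht, ?_⟩
  · have : x ∈ Set.range hV.fromSpec := by
      rw [hV.range_fromSpec]; exact hx
    exact this
  · apply pullback.hom_ext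
    · rw [Category.assoc, hec_fst, Category.assoc, FrobSch.relFrob_fst, ← Category.assoc,
        ← Spec.map_comp, inl_relW]
      exact frob_fromSpec p hV hB
    · rw [Category.assoc, hec_snd, Category.assoc, FrobSch.relFrob_snd, ← Category.assoc,
        ← Spec.map_comp, inr_relW]
      exact e₁

/-- the relative Frobenius of a smooth morphism is quasi-étale. -/
theorem isQuiet_relFrob (S X : Scheme.{u}) [FrobSch.IsCharP S p] (f : X ⟶ S) (d : ℕ)
    [SmoothOfRelativeDimension d f] : Quiet.IsQuiet p (FrobSch.relFrob f p) := by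
  haveI : FrobSch.IsCharP X p := FrobSch.IsCharP.of_hom f p
  apply isQuiet_of_hasChart
  intro x
  obtain ⟨U, hU, V, hV, hx, e, hf⟩ :=
    SmoothOfRelativeDimension.exists_isStandardSmoothOfRelativeDimension (n := d) (f := f) x
  obtain ⟨g, hgC, hg⟩ := hf.exists_etale_mvPolynomial
  have hA := FrobSch.natCast_eq_zero_app S p U
  have hB := FrobSch.natCast_eq_zero_app X p V
  exact hasChart_relFrob p f x U hU V hV hx e d hA hB
    (tower_relW_of_standardSmooth p d hA hB (f.appLE U V e) g hgC hg)

theorem isSyntomicMor_relFrob (S X : Scheme.{u}) [FrobSch.IsCharP S p] (f : X ⟶ S) (d : ℕ)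
    [SmoothOfRelativeDimension d f] : Synt.IsSyntomicMor (FrobSch.relFrob f p) :=
  isSyntomicMor_of_isQuiet p _ (isQuiet_relFrob p S X f d)

end Groth.Agent.H8.QTower
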